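import Cfsg.Agent.ClassSizePSLTwo.Index
import Cfsg.Agent.LocalEven.ZJQd
import Cfsg.Agent.LocalEven.ZJLocallyFree
import Cfsg.Agent.S4355

/-!
# Sylow subgroups of a group in which `p`-centralisers are `p`-groups

If the centraliser of every non-trivial `p`-element is a `p`-group of index prime to `p`, then the
Sylow `p`-subgroups are abelian. For odd `p` such a group involves no `Qd(p)`, as `Qd(p)` has an
involution commuting with an element of order `p`, so `Z(J)` controls fusion.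
-/

set_option autoImplicit false
set_option linter.style.haveILetI false

namespace CfsgLib.ClassSizePSLTwo

open Subgroup
open scoped Pointwise

theorem IsRElem.map {G H : Type*} [Group G] [Group H] {r : ℕ} {x : G} (h : IsRElem r x)
    (f : G →* H) : IsRElem r (f x) := by
  obtain ⟨k, hk⟩ := h
  exact ⟨k, by rw [← map_pow, hk, map_one]⟩

theorem IsRElem.eq_one_of_rprime {G : Type*} [Group G] {r : ℕ} (hr : r.Prime) {x : G}
    (h : IsRElem r x) (h' : IsRPrimeElem r x) : x = 1 := by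
  obtain ⟨k, hk⟩ := h
  obtain ⟨b, hb, hb'⟩ := h'
  exact orderOf_eq_one_iff.1 (Nat.eq_one_of_dvd_coprimes ((hr.coprime_iff_not_dvd.2 hb).pow_left k)
    (orderOf_dvd_of_pow_eq_one hk) (orderOf_dvd_of_pow_eq_one hb'))

theorem IsRPrimeElem.map {G H : Type*} [Group G] [Group H] {r : ℕ} {x : G} (h : IsRPrimeElem r x)
    (f : G →* H) : IsRPrimeElem r (f x) := by
  obtain ⟨b, hb, hb'⟩ := h
  exact ⟨b, hb, by rw [← map_pow, hb', map_one]⟩

theorem IsRElem.mul_inv {G : Type*} [Group G] {r : ℕ} {x y : G} (hc : Commute x y)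
    (hx : IsRElem r x) (hy : IsRElem r y) : IsRElem r (x * y⁻¹) := by
  obtain ⟨k, hk⟩ := hx
  obtain ⟨l, hl⟩ := hy
  refine ⟨k + l, ?_⟩
  rw [hc.inv_right.mul_pow, pow_add, pow_mul, hk, one_pow, one_mul, inv_pow, inv_eq_one, mul_comm,
    pow_mul, hl, one_pow]

/-- The `r`-part of a preimage of an `r`-element is a preimage. -/
theorem exists_part_map {G H : Type*} [Group G] [Finite G] [Group H] {r : ℕ} (hr : r.Prime)
    (f : G →* H) {g : G} (hg : IsRElem r (f g)) :
    ∃ a : ℕ, IsRElem r (g ^ a) ∧ f (g ^ a) = f g := by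
  obtain ⟨a, b, ha, hb, hab⟩ := exists_parts hr g
  refine ⟨a, ha, ?_⟩
  have h1 : f (g ^ b) = 1 := by
    refine IsRElem.eq_one_of_rprime hr ?_ (hb.map f)
    have e : f (g ^ b) = f g * (f (g ^ a))⁻¹ := by
      rw [← map_inv, ← map_mul]
      congr 1
      rw [eq_mul_inv_iff_mul_eq, ← pow_add, Nat.add_comm, pow_add]
      exact hab.symm
    rw [e]
    exact hg.mul_inv ((Commute.self_pow g a).map f) (ha.map f)
  conv_rhs => rw [hab]
  rw [map_mul, h1, mul_one]

theorem isRElem_of_mem {G : Type*} [Group G] {r : ℕ} {P : Subgroup G} (hP : IsPGroup r P) {x : G}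
    (hx : x ∈ P) : IsRElem r x := by
  obtain ⟨k, hk⟩ := hP ⟨x, hx⟩
  exact ⟨k, congrArg Subtype.val hk⟩

theorem IsRElem.isPGroup_zpowers {G : Type*} [Group G] {r : ℕ} {x : G} (hx : IsRElem r x) :
    IsPGroup r (zpowers x) := by
  obtain ⟨k, hk⟩ := hx
  rintro ⟨_, n, rfl⟩
  exact ⟨k, Subtype.ext (by
    rw [SubgroupClass.coe_pow, coe_one, ← zpow_natCast, zpow_comm, zpow_natCast, hk, one_zpow])⟩

/-- A commuting involution and element of order `p` in a quotient give commuting non-trivial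
`2`- and `p`-elements. -/
theorem exists_commute_of_hom {K Q : Type*} [Group K] [Finite K] [Group Q] {p : ℕ} [Fact p.Prime]
    (hp : p ≠ 2) (f : K →* Q) (hf : Function.Surjective f) {t u : Q} (ht : t ^ 2 = 1) (ht1 : t ≠ 1)
    (hu : u ^ p = 1) (hu1 : u ≠ 1) (htu : Commute t u) :
    ∃ x y : K, Commute x y ∧ IsRElem 2 x ∧ x ≠ 1 ∧ IsRElem p y ∧ y ≠ 1 := by
  classical
  have hpp : p.Prime := Fact.out
  set M := (zpowers t).comap f with hM
  obtain ⟨g, hg⟩ := hf t
  obtain ⟨a, ha, hat⟩ := exists_part_map Nat.prime_two f (g := g) ⟨1, by rw [hg, pow_one, ht]⟩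
  have hgM : g ^ a ∈ M := by rw [hM, mem_comap, hat, hg]; exact mem_zpowers t
  obtain ⟨T, hT⟩ := IsPGroup.exists_le_sylow (p := 2) (P := (zpowers (g ^ a)).subgroupOf M)
    ((ha.isPGroup_zpowers).comap_subtype)
  set T' := (T : Subgroup M).map M.subtype with hT'
  have hgT : g ^ a ∈ T' := ⟨⟨g ^ a, hgM⟩, hT (mem_zpowers (g ^ a)), rfl⟩
  obtain ⟨u₀, hu₀⟩ := hf u
  have hconj : ∀ v : Q, v ∈ zpowers t → u * v * u⁻¹ = v := by
    rintro _ ⟨n, rfl⟩
    exact mul_inv_eq_iff_eq_mul.2 (htu.zpow_left n).eq.symm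
  have hMc : ∀ m ∈ M, u₀ * m * u₀⁻¹ ∈ M := fun m hm => by
    rw [hM, mem_comap] at hm ⊢
    rw [map_mul, map_mul, map_inv, hu₀, hconj _ hm]
    exact hm
  -- the conjugate of `T` is a Sylow subgroup of `M`
  let φ : M →* M := ((MulAut.conj u₀ : MulAut K).toMonoidHom.comp M.subtype).codRestrict M
    (fun m => hMc m m.2)
  have hφ : Function.Injective φ := fun x y e =>
    Subtype.ext ((MulAut.conj u₀ : MulAut K).injective (congrArg Subtype.val e))
  have hcard : Nat.card ((T : Subgroup M).map φ) = 2 ^ (Nat.card M).factorization 2 := by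
    rw [← Nat.card_congr ((T : Subgroup M).equivMapOfInjective φ hφ).toEquiv,
      T.card_eq_multiplicity]
  let T₁ : Sylow 2 M := Sylow.ofCard ((T : Subgroup M).map φ) hcard
  obtain ⟨m, hm⟩ := MulAction.exists_smul_eq M T₁ T
  set u₁ := (m : K) * u₀ with hu₁
  have hnorm : ∀ x ∈ T', u₁ * x * u₁⁻¹ ∈ T' := by
    rintro _ ⟨x, hx, rfl⟩
    refine ⟨m * φ x * m⁻¹, ?_, ?_⟩
    · rw [← hm, Sylow.coe_subgroup_smul, SetLike.mem_coe, mem_pointwise_smul_iff_inv_smul_mem,
        MulAut.smul_def, ← map_inv MulAut.conj, MulAut.conj_apply, inv_inv]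
      show m⁻¹ * (m * φ x * m⁻¹) * m ∈ (T : Subgroup M).map φ
      rw [show m⁻¹ * (m * φ x * m⁻¹) * m = φ x by group]
      exact ⟨x, hx, rfl⟩
    · show (m : K) * (u₀ * (x : K) * u₀⁻¹) * (m : K)⁻¹ = u₁ * (x : K) * u₁⁻¹
      rw [hu₁]; group
  -- a `p`-element acting on `T'`
  obtain ⟨n, hn⟩ : ∃ n : ℤ, t ^ n = f m := m.2
  have hu2 : f (u₁ ^ 2) = u ^ 2 := by
    rw [map_pow, hu₁, map_mul, hu₀, ← hn, (htu.zpow_left n).mul_pow, ← zpow_natCast (t ^ n),
      ← zpow_mul, mul_comm, zpow_mul, zpow_natCast, ht, one_zpow, one_mul]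
  obtain ⟨b, hb, hbu⟩ := exists_part_map hpp f (g := u₁ ^ 2)
    ⟨1, by rw [hu2, pow_one, ← pow_mul, mul_comm, pow_mul, hu, one_pow]⟩
  set y := (u₁ ^ 2) ^ b with hy
  have hy1 : y ≠ 1 := fun e => by
    have h1 : u ^ 2 = 1 := by rw [← hu2, ← hbu, e, map_one]
    have h2 : orderOf u = p := orderOf_eq_prime hu hu1
    have := Nat.le_of_dvd two_pos (h2 ▸ orderOf_dvd_of_pow_eq_one h1)
    have := hpp.two_le
    omega
  let N : Subgroup K := Subgroup.normalizer (T' : Set K)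
  have hu₁N : u₁ ∈ N := by
    refine Subgroup.mem_normalizer_iff_map_conj_eq.2 ?_
    refine Subgroup.eq_of_le_of_card_ge ?_
      (Nat.card_congr (T'.equivMapOfInjective _ (MulEquiv.injective (MulAut.conj u₁))).toEquiv).le
    rintro _ ⟨x, hx, rfl⟩
    exact hnorm x hx
  have hyN : y ∈ N := pow_mem (pow_mem hu₁N 2) b
  -- the preimages of `t` in `T'`
  let S := {x : K // x ∈ T' ∧ f x = t}
  have hST : ∀ k : zpowers y, ∀ x : K, x ∈ T' ∧ f x = t →
      (k : K) * x * (k : K)⁻¹ ∈ T' ∧ f ((k : K) * x * (k : K)⁻¹) = t := by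
    intro k x hx
    have hkN : (k : K) ∈ N := (zpowers_le.2 hyN) k.2
    refine ⟨(Subgroup.mem_normalizer_iff.1 hkN x).1 hx.1, ?_⟩
    obtain ⟨j, hj⟩ := k.2
    rw [map_mul, map_mul, map_inv, hx.2, ← hj, map_zpow, hbu, hu2]
    exact mul_inv_eq_iff_eq_mul.2 ((htu.pow_right 2).zpow_right j).eq.symm
  letI : MulAction (zpowers y) S :=
    { smul := fun k x => ⟨(k : K) * x * (k : K)⁻¹, hST k x x.2⟩
      one_smul := fun x => Subtype.ext (show ((1 : zpowers y) : K) * x * ((1 : zpowers y) : K)⁻¹ = x by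
        simp)
      mul_smul := fun k l x => Subtype.ext
        (show ((k * l : zpowers y) : K) * x * ((k * l : zpowers y) : K)⁻¹ =
          (k : K) * ((l : K) * x * (l : K)⁻¹) * (k : K)⁻¹ by rw [Subgroup.coe_mul]; group) }
  let e : S ≃ (T' ⊓ f.ker : Subgroup K) :=
    { toFun := fun x => ⟨(g ^ a)⁻¹ * x, Subgroup.mem_inf.2
        ⟨T'.mul_mem (T'.inv_mem hgT) x.2.1, MonoidHom.mem_ker.2 (by
          rw [map_mul, map_inv, x.2.2, hat, hg, inv_mul_cancel])⟩⟩
      invFun := fun z => ⟨g ^ a * z, T'.mul_mem hgT (Subgroup.mem_inf.1 z.2).1, by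
        rw [map_mul, MonoidHom.mem_ker.1 (Subgroup.mem_inf.1 z.2).2, mul_one, hat, hg]⟩
      left_inv := fun x => Subtype.ext (mul_inv_cancel_left _ _)
      right_inv := fun z => Subtype.ext (inv_mul_cancel_left _ _) }
  obtain ⟨k, hk⟩ := IsPGroup.iff_card.1
    ((T.isPGroup'.map M.subtype).to_le (inf_le_left : T' ⊓ f.ker ≤ T'))
  have hS : ¬ p ∣ Nat.card S := by
    rw [Nat.card_congr e, hk]
    exact fun h => hp ((Nat.prime_dvd_prime_iff_eq hpp Nat.prime_two).1 (hpp.dvd_of_dvd_pow h))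
  obtain ⟨⟨x, hxT, hxt⟩, hx⟩ :=
    hb.isPGroup_zpowers.nonempty_fixed_point_of_prime_not_dvd_card S hS
  refine ⟨x, y, ?_, isRElem_of_mem (T.isPGroup'.map M.subtype) hxT,
    fun e => ht1 (by rw [← hxt, e, map_one]), hb, hy1⟩
  exact (mul_inv_eq_iff_eq_mul.1
    (congrArg Subtype.val (hx ⟨y, mem_zpowers y⟩) : y * x * y⁻¹ = x)).symm

open Matrix CfsgLib.QdFree in
/-- In such a group `Qd(p)` is not involved. -/
theorem not_involves_qd {G : Type*} [Group G] [Finite G] {p : ℕ} [Fact p.Prime] (hp : p ≠ 2)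
    (hcent : ∀ u : G, IsRElem p u → u ≠ 1 → IsPGroup p (centralizer ({u} : Set G))) :
    ¬ Cfsg.Involves ↥(Cfsg.qd p) G := by
  intro h
  obtain ⟨K, f, hf⟩ := exists_surjective_of_involves h
  have h2 : (2 : ZMod p) ≠ 0 := fun e =>
    hp ((Nat.prime_dvd_prime_iff_eq Fact.out Nat.prime_two).1
      ((ZMod.natCast_eq_zero_iff 2 p).1 (by exact_mod_cast e)))
  let t : ↥(Cfsg.qd p) := mkQd (-1) 0 0 (-1) 0 0 (by ring)
  let u : ↥(Cfsg.qd p) := mkQd 1 1 0 1 0 0 (by ring)
  have ht : t ^ 2 = 1 := by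
    apply Subtype.ext
    apply Subtype.ext
    ext i j
    fin_cases i <;> fin_cases j <;>
      simp [t, pow_two, val_mkQd, Subgroup.coe_mul, Matrix.SpecialLinearGroup.coe_mul,
        Matrix.SpecialLinearGroup.coe_one, Matrix.mul_apply, Fin.sum_univ_three]
  have ht1 : t ≠ 1 := fun e => by
    have := congrArg (fun x : ↥(Cfsg.qd p) => x.1.1 0 0) e
    simp [t, val_mkQd, Matrix.SpecialLinearGroup.coe_one] at this
    exact h2 (by linear_combination -this)
  have hu : u ^ p = 1 := pow_eq_one_of_unitri hp u (by simp [u, val_mkQd]) (by simp [u, val_mkQd])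
    (by simp [u, val_mkQd])
  have hu1 : u ≠ 1 := fun e => by
    have := congrArg (fun x : ↥(Cfsg.qd p) => x.1.1 0 1) e
    simp [u, val_mkQd, Matrix.SpecialLinearGroup.coe_one] at this
  have htu : Commute t u := by
    apply Subtype.ext
    apply Subtype.ext
    ext i j
    fin_cases i <;> fin_cases j <;>
      simp [t, u, val_mkQd, Subgroup.coe_mul, Matrix.SpecialLinearGroup.coe_mul, Matrix.mul_apply,
        Fin.sum_univ_three]
  obtain ⟨x, y, hxy, hx, hx1, hy, hy1⟩ := exists_commute_of_hom hp f hf ht ht1 hu hu1 htu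
  have hxC : (x : G) ∈ centralizer ({(y : G)} : Set G) :=
    mem_cent.2 (hxy.map K.subtype).eq
  obtain ⟨j, hj⟩ := isRElem_of_mem (hcent y (hy.map K.subtype)
    fun e => hy1 (Subtype.ext e)) hxC
  obtain ⟨i, hi⟩ := hx.map K.subtype
  refine hx1 (Subtype.ext (orderOf_eq_one_iff.1 (Nat.eq_one_of_dvd_coprimes
    (((Nat.coprime_primes Nat.prime_two Fact.out).2 hp.symm).pow i j)
    (orderOf_dvd_of_pow_eq_one hi) (orderOf_dvd_of_pow_eq_one hj))))

/-- The Sylow subgroups are abelian. -/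
theorem isMulCommutative_sylow {G : Type*} [Group G] [Finite G] {p : ℕ} [Fact p.Prime]
    (hidx : ∀ u : G, IsRElem p u → ¬ p ∣ (centralizer ({u} : Set G)).index)
    (hcent : ∀ u : G, IsRElem p u → u ≠ 1 → IsPGroup p (centralizer ({u} : Set G)))
    (P : Sylow p G) : IsMulCommutative (P : Subgroup G) := by
  by_cases hp : p = 2
  · subst hp
    exact Cfsg.Agent.S4355.result (fun x hx => hidx x (by
      obtain ⟨k, hk⟩ := hx
      exact ⟨k, by rw [← hk, pow_orderOf_eq_one]⟩)) P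
  obtain ⟨T, hUT, hfus⟩ :=
    CfsgLib.LocalEven.controlsStrongFusion_centerThompsonA hp (not_involves_qd hp hcent) P
  set U := Cfsg.centerThompsonAOf (P : Subgroup G) with hU
  have hTU : ∀ u ∈ (T : Subgroup G), u ∈ U := by
    intro u hu
    have hur := isRElem_of_mem T.isPGroup' hu
    obtain ⟨R, huR, hRC⟩ := exists_sylow_le_cent hur (hidx u hur)
    obtain ⟨g, hg⟩ := MulAction.exists_smul_eq G R P
    have hzU : g * u * g⁻¹ ∈ U := by
      refine CfsgLib.LocalEven.LocallyFree.inf_centralizer_le_centerThompsonAOf _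
        (Subgroup.mem_inf.2 ⟨?_, ?_⟩)
      · rw [← hg, Sylow.coe_subgroup_smul, mem_pointwise_smul_iff_inv_smul_mem,
          MulAut.smul_def, ← map_inv MulAut.conj, MulAut.conj_apply]
        simpa [mul_assoc] using huR
      · rw [mem_centralizer_iff]
        intro r hr
        rw [SetLike.mem_coe, ← hg, Sylow.coe_subgroup_smul, mem_pointwise_smul_iff_inv_smul_mem,
          MulAut.smul_def, ← map_inv MulAut.conj, MulAut.conj_apply, inv_inv] at hr
        calc r * (g * u * g⁻¹) = g * (g⁻¹ * r * g * u) * g⁻¹ := by group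
          _ = g * (u * (g⁻¹ * r * g)) * g⁻¹ := by rw [mem_cent.1 (hRC hr)]
          _ = g * u * g⁻¹ * r := by group
    obtain ⟨-, hf⟩ := hfus {g * u * g⁻¹} (Set.singleton_subset_iff.2 (hUT hzU))
    obtain ⟨x, hxN, hx⟩ := hf g⁻¹ (by
      rw [Set.image_singleton, Set.singleton_subset_iff,
        show g⁻¹ * (g * u * g⁻¹) * g⁻¹⁻¹ = u by group]
      exact hu)
    have hx' := hx (g * u * g⁻¹) rfl
    rw [show g⁻¹ * (g * u * g⁻¹) * g⁻¹⁻¹ = u by group] at hx'
    rw [hx']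
    exact (Subgroup.mem_normalizer_iff.1 hxN _).1 hzU
  obtain ⟨g, hg⟩ := MulAction.exists_smul_eq G T P
  refine ⟨⟨fun a b => Subtype.ext ?_⟩⟩
  have key : ∀ c : (P : Subgroup G), g⁻¹ * (c : G) * g ∈ U := fun c => hTU _ (by
    have h : (c : G) ∈ ((g • T : Sylow p G) : Subgroup G) := by rw [hg]; exact c.2
    rwa [Sylow.coe_subgroup_smul, mem_pointwise_smul_iff_inv_smul_mem, MulAut.smul_def,
      ← map_inv MulAut.conj, MulAut.conj_apply, inv_inv] at h)
  have hab : Commute (g⁻¹ * (a : G) * g) (g⁻¹ * (b : G) * g) :=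
    (mem_centralizer_iff.1 (key b).2 _ (key a).1)
  show (a : G) * b = b * a
  calc (a : G) * b = g * ((g⁻¹ * a * g) * (g⁻¹ * b * g)) * g⁻¹ := by group
    _ = g * ((g⁻¹ * b * g) * (g⁻¹ * a * g)) * g⁻¹ := by rw [hab.eq]
    _ = _ := by group

end CfsgLib.ClassSizePSLTwo
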