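import Cfsg.Agent.ClassSizePSLTwo.Abelian
import Cfsg.Prelude.Def_LieExceptional

/-!
# The action on the Sylow `p`-subgroups

A group of order `q (q² - 1) / d` in which the centraliser of each non-trivial `p`-element has
order `q` is a Zassenhaus group on its `q + 1` Sylow `p`-subgroups.
-/

set_option autoImplicit false
set_option linter.style.haveILetI false

namespace CfsgLib.ClassSizePSLTwo

open Subgroup MulAction
open scoped Pointwise

/-- The facts about the central quotient. -/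
structure PData (H : Type*) [Group H] (q p f d : ℕ) : Prop where
  prime : p.Prime
  q_eq : q = p ^ f
  four_le : 4 ≤ q
  d_eq : (d = 1 ∧ p = 2) ∨ (d = 2 ∧ p ≠ 2)
  card : d * Nat.card H = q * (q ^ 2 - 1)
  cent : ∀ u : H, IsRElem p u → u ≠ 1 → IsPGroup p (centralizer ({u} : Set H))
  cent_card : ∀ u : H, IsRElem p u → u ≠ 1 → Nat.card (centralizer ({u} : Set H)) = q
  no_reg : ∀ (r i : ℕ) (u : H), r.Prime → q + 1 = r ^ i → IsRElem r u → u ≠ 1 →
    (centralizer ({u} : Set H)).index ≠ q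

variable {H : Type*} [Group H] [Finite H] {q p f d : ℕ}

namespace PData

omit [Finite H] in
theorem p_dvd (h : PData H q p f d) : p ∣ q := by
  refine h.q_eq ▸ dvd_pow_self p fun e => ?_
  have h1 := h.four_le
  have h2 := h.q_eq
  rw [e, pow_zero] at h2
  omega

omit [Finite H] in
theorem d_pos (h : PData H q p f d) : 0 < d := by
  rcases h.d_eq with ⟨e, -⟩ | ⟨e, -⟩ <;> omega

omit [Finite H] in
theorem coprime_pred (h : PData H q p f d) : Nat.Coprime q (q ^ 2 - 1) := by
  have h1 : 1 ≤ q ^ 2 := Nat.one_le_pow _ _ (by have := h.four_le; omega)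
  refine Nat.coprime_of_dvd' fun r _ hrq hr => ?_
  have := Nat.dvd_sub (hrq.trans (dvd_pow_self q two_ne_zero)) hr
  rwa [Nat.sub_sub_self h1] at this

omit [Finite H] in
theorem coprime_d (h : PData H q p f d) : Nat.Coprime q d := by
  rcases h.d_eq with ⟨e, -⟩ | ⟨e, hp⟩ <;> rw [e]
  · exact Nat.coprime_one_right q
  · rw [h.q_eq]
    exact ((Nat.coprime_primes h.prime Nat.prime_two).2 hp).pow_left f

omit [Finite H] in
/-- The largest power of `p` dividing the order. -/
theorem dvd_q (h : PData H q p f d) {k : ℕ} (hk : p ^ k ∣ Nat.card H) : p ^ k ∣ q := by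
  refine (Nat.Coprime.pow_left k ((h.coprime_pred.coprime_dvd_left h.p_dvd))).dvd_of_dvd_mul_right ?_
  exact h.card ▸ hk.mul_left d

theorem card_sylow (h : PData H q p f d) [Fact p.Prime] (P : Sylow p H) :
    Nat.card (P : Subgroup H) = q := by
  obtain ⟨k, hk⟩ := IsPGroup.iff_card.1 P.isPGroup'
  have hle : q ∣ Nat.card H := h.coprime_d.dvd_of_dvd_mul_left (h.card ▸ dvd_mul_right q _)
  refine Nat.dvd_antisymm (hk ▸ h.dvd_q (hk ▸ (P : Subgroup H).card_subgroup_dvd_card)) ?_
  rw [h.q_eq] at hle ⊢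
  exact P.pow_dvd_card_of_pow_dvd_card hle

omit [Finite H] in
theorem not_dvd_idx (h : PData H q p f d) [Fact p.Prime] {u : H} (hu : IsRElem p u) :
    ¬ p ∣ (centralizer ({u} : Set H)).index := by
  by_cases hu1 : u = 1
  · rw [hu1, show centralizer ({1} : Set H) = ⊤ from
      eq_top_iff.2 fun g _ => mem_cent.2 (by simp), index_top]
    exact h.prime.not_dvd_one
  intro hd
  have h1 := (centralizer ({u} : Set H)).card_mul_index
  rw [h.cent_card u hu hu1] at h1
  have h2 : p * q ∣ Nat.card H := h1 ▸ by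
    rw [mul_comm p]; exact Nat.mul_dvd_mul_left q hd
  have h3 : p ^ (f + 1) ∣ Nat.card H := by rw [pow_succ', ← h.q_eq]; exact h2
  have h4 := h.dvd_q h3
  rw [h.q_eq, Nat.pow_dvd_pow_iff_le_right h.prime.one_lt] at h4
  omega

theorem comm (h : PData H q p f d) [Fact p.Prime] (P : Sylow p H) :
    IsMulCommutative (P : Subgroup H) :=
  isMulCommutative_sylow (fun _ hu => h.not_dvd_idx hu) h.cent P

theorem cent_eq (h : PData H q p f d) [Fact p.Prime] {P : Sylow p H} {u : H}
    (hu : u ∈ (P : Subgroup H)) (hu1 : u ≠ 1) : centralizer ({u} : Set H) = P := by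
  haveI := h.comm P
  refine (Subgroup.eq_of_le_of_card_ge (fun x hx => mem_cent.2 ?_) ?_).symm
  · exact congrArg Subtype.val (IsMulCommutative.is_comm.comm
      (⟨x, hx⟩ : (P : Subgroup H)) ⟨u, hu⟩)
  · rw [h.cent_card u (isRElem_of_mem P.isPGroup' hu) hu1, h.card_sylow P]

omit [Finite H] in
/-- An element of a Sylow subgroup fixes it. -/
theorem smul_self [Fact p.Prime] {P : Sylow p H} {u : H} (hu : u ∈ (P : Subgroup H)) : u • P = P :=
  Sylow.smul_eq_iff_mem_normalizer.2 (Subgroup.le_normalizer hu)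

theorem eq_one_of_smul (h : PData H q p f d) [Fact p.Prime] {P R : Sylow p H} (hne : P ≠ R) {u : H}
    (hu : u ∈ (P : Subgroup H)) (hfix : u • R = R) : u = 1 := by
  by_contra hu1
  have hmem : u ∈ (P : Subgroup H) ⊓ Subgroup.normalizer ((R : Subgroup H) : Set H) :=
    ⟨hu, Sylow.smul_eq_iff_mem_normalizer.1 hfix⟩
  have hmem' := (P.isPGroup'.inf_normalizer_sylow R).le hmem
  exact hne (Sylow.ext ((h.cent_eq hu hu1).symm.trans (h.cent_eq hmem'.2 hu1)))

theorem card_sylow_modEq (h : PData H q p f d) [Fact p.Prime] (P : Sylow p H) :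
    Nat.card (Sylow p H) ≡ 1 [MOD q] := by
  classical
  let Y : SubMulAction (P : Subgroup H) (Sylow p H) :=
    { carrier := {R | R ≠ P}
      smul_mem' := fun g R hR hgR => hR (by
        have hgR' : (g : H) • R = P := hgR
        exact (eq_inv_smul_iff.2 hgR').trans (smul_self (inv_mem g.2))) }
  have hfree : ∀ R : Y, stabilizer (P : Subgroup H) R = ⊥ := fun R =>
    (Subgroup.eq_bot_iff_forall _).2 fun g hg => Subtype.ext
      (h.eq_one_of_smul (Ne.symm R.2) g.2 (congrArg Subtype.val (mem_stabilizer_iff.1 hg)))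
  have hY := Nat.card_congr (selfEquivOrbitsQuotientProd hfree)
  rw [Nat.card_prod, h.card_sylow P] at hY
  have hsplit : Nat.card (Sylow p H) = Nat.card Y + 1 := by
    rw [← Finite.card_option]
    exact (Nat.card_congr (Equiv.optionSubtypeNe P)).symm
  rw [hsplit, hY, Nat.ModEq, Nat.add_mod, Nat.mul_mod_left, zero_add, Nat.mod_mod]

/-- There are `q + 1` Sylow subgroups, with normalisers of order `q (q - 1) / d`. -/
theorem sylow_data (h : PData H q p f d) [Fact p.Prime] (P : Sylow p H) :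
    Nat.card (Sylow p H) = q + 1 ∧
      d * Nat.card (Subgroup.normalizer ((P : Subgroup H) : Set H)) = q * (q - 1) := by
  classical
  set N := Subgroup.normalizer ((P : Subgroup H) : Set H) with hN
  set w := ((P : Subgroup H).subgroupOf N).index with hw
  have hcN : Nat.card N = q * w := by
    rw [← h.card_sylow P, hw, ← Nat.card_congr
      (Subgroup.subgroupOfEquivOfLe (H := (P : Subgroup H)) (K := N) Subgroup.le_normalizer).toEquiv,
      Subgroup.card_mul_index]
  have hq4 := h.four_le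
  -- the normaliser is semiregular modulo `P`
  obtain ⟨y, hy, hy1⟩ := (Subgroup.bot_or_exists_ne_one (P : Subgroup H)).resolve_left fun e => by
    have := h.card_sylow P
    rw [e, Subgroup.card_bot] at this
    omega
  have hwle : w ≤ q - 1 := by
    have hC : N ⊓ centralizer ({y} : Set H) = P := by
      rw [h.cent_eq hy hy1, inf_eq_right]; exact Subgroup.le_normalizer
    let φ : ↥N ⧸ (P : Subgroup H).subgroupOf N → {x : (P : Subgroup H) // x ≠ 1} :=
      Quotient.lift (fun g : N => ⟨⟨(g : H) * y * (g : H)⁻¹,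
          (Subgroup.mem_normalizer_iff.1 g.2 y).1 hy⟩,
          fun e => hy1 (conj_eq_one_iff.1 (congrArg Subtype.val e))⟩) (by
        intro a b hab
        refine Subtype.ext (Subtype.ext ?_)
        have hab' : (a : H)⁻¹ * b ∈ (P : Subgroup H) := by
          have := QuotientGroup.leftRel_apply.1 hab
          exact this
        rw [← h.cent_eq hy hy1, mem_cent] at hab'
        show (a : H) * y * (a : H)⁻¹ = (b : H) * y * (b : H)⁻¹
        calc (a : H) * y * (a : H)⁻¹ =
              (a : H) * (y * ((a : H)⁻¹ * b)) * (b : H)⁻¹ := by group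
          _ = (a : H) * ((a : H)⁻¹ * b * y) * (b : H)⁻¹ := by rw [hab']
          _ = _ := by group)
    have hφ : Function.Injective φ := by
      rintro ⟨a⟩ ⟨b⟩ e
      have e' : (a : H) * y * (a : H)⁻¹ = (b : H) * y * (b : H)⁻¹ :=
        congrArg Subtype.val (congrArg Subtype.val e)
      refine QuotientGroup.eq.2 ?_
      show (a : H)⁻¹ * b ∈ (P : Subgroup H)
      rw [← h.cent_eq hy hy1, mem_cent]
      calc (a : H)⁻¹ * b * y = (a : H)⁻¹ * ((b : H) * y * (b : H)⁻¹) * b := by group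
        _ = _ := by rw [← e']; group
    have h1 := Nat.card_le_card_of_injective φ hφ
    rw [← Subgroup.index, ← hw] at h1
    have h2 : Nat.card {x : (P : Subgroup H) // x ≠ 1} + 1 = Nat.card (P : Subgroup H) := by
      rw [← Finite.card_option]
      exact Nat.card_congr (Equiv.optionSubtypeNe 1)
    rw [h.card_sylow P] at h2
    omega
  set n := Nat.card (Sylow p H)
  have hsq : q ^ 2 - 1 = (q - 1) * (q + 1) := by rw [mul_comm, ← Nat.sq_sub_sq, one_pow]
  have hnw : d * w * n = (q - 1) * (q + 1) := by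
    refine Nat.eq_of_mul_eq_mul_left (show 0 < q by omega) ?_
    rw [← hsq, ← h.card, ← N.card_mul_index, hcN,
      show N.index = n from P.card_eq_index_normalizer.symm]
    ring
  have h1 : q ∣ d * w + 1 := by
    have hmod := ((h.card_sylow_modEq P).mul_left (d * w)).add_right 1
    rw [mul_one, hnw, show (q - 1) * (q + 1) + 1 = q * q by
      obtain ⟨m, hm⟩ : ∃ m, q = m + 1 := ⟨q - 1, by omega⟩
      rw [hm, Nat.add_sub_cancel]; ring] at hmod
    exact Nat.modEq_zero_iff_dvd.1 (hmod.symm.trans (Nat.modEq_zero_iff_dvd.2 (dvd_mul_right _ _)))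
  have hdw : d * w = q - 1 := by
    obtain ⟨k, hk⟩ := h1
    rcases h.d_eq with ⟨rfl, -⟩ | ⟨rfl, hp2⟩
    · rcases Nat.lt_or_ge k 2 with hk2 | hk2
      · interval_cases k <;> omega
      · have := Nat.mul_le_mul_left q hk2
        omega
    · rcases Nat.lt_or_ge k 2 with hk2 | hk2
      · interval_cases k <;> omega
      · have := Nat.mul_le_mul_left q hk2
        omega
  rw [hdw] at hnw
  refine ⟨Nat.eq_of_mul_eq_mul_left (by omega) hnw, ?_⟩
  rw [hcN, ← hdw]; ring

theorem exists_ne_sylow (h : PData H q p f d) [Fact p.Prime] (P : Sylow p H) :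
    ∃ R : Sylow p H, R ≠ P := by
  by_contra hc
  push Not at hc
  haveI : Subsingleton (Sylow p H) := ⟨fun a b => (hc a).trans (hc b).symm⟩
  have h1 := (h.sylow_data P).1
  rw [Nat.card_of_subsingleton P] at h1
  have := h.four_le
  omega

/-- The Sylow subgroup acts regularly on the other Sylow subgroups. -/
theorem existsUnique_smul (h : PData H q p f d) [Fact p.Prime] {P R R' : Sylow p H} (hR : R ≠ P)
    (hR' : R' ≠ P) : ∃! u : (P : Subgroup H), (u : H) • R = R' := by
  classical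
  haveI := Fintype.ofFinite (Sylow p H)
  haveI := Fintype.ofFinite (P : Subgroup H)
  let φ : ↥(P : Subgroup H) → {S : Sylow p H // S ≠ P} := fun u =>
    ⟨(u : H) • R, fun e => hR (smul_left_cancel (u : H) (e.trans (smul_self u.2).symm))⟩
  have hinj : Function.Injective φ := by
    intro u v e
    have e' : (u : H) • R = (v : H) • R := congrArg Subtype.val e
    have h1 : ((v : H)⁻¹ * u) • R = R := by rw [mul_smul, e', inv_smul_smul]
    exact (Subtype.ext (inv_mul_eq_one.1
      (h.eq_one_of_smul (Ne.symm hR) (mul_mem (inv_mem v.2) u.2) h1))).symm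
  have hbij : Function.Bijective φ := by
    refine (Fintype.bijective_iff_injective_and_card _).2 ⟨hinj, ?_⟩
    rw [← Nat.card_eq_fintype_card, h.card_sylow P, Fintype.card_subtype_compl,
      Fintype.card_subtype_eq, ← Nat.card_eq_fintype_card, (h.sylow_data P).1, Nat.add_sub_cancel]
  obtain ⟨u, hu, huniq⟩ := hbij.existsUnique ⟨R', hR'⟩
  exact ⟨u, congrArg Subtype.val hu, fun v hv => huniq v (Subtype.ext hv)⟩

theorem two_pretransitive (h : PData H q p f d) [Fact p.Prime] :
    IsMultiplyPretransitive H (Sylow p H) 2 := by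
  rw [is_two_pretransitive_iff]
  intro a b c e hab hce
  obtain ⟨g, hg⟩ := exists_smul_eq H a c
  obtain ⟨u, hu, -⟩ := h.existsUnique_smul (P := c) (R := g • b) (R' := e)
    (fun e' => hab (smul_left_cancel g (hg.trans e'.symm))) (Ne.symm hce)
  exact ⟨(u : H) * g, by rw [mul_smul, hg, smul_self u.2], by rw [mul_smul, hu]⟩

theorem mem_of_commute (h : PData H q p f d) [Fact p.Prime] {P : Sylow p H} {u x : H}
    (hu : u ∈ (P : Subgroup H)) (hu1 : u ≠ 1) (hc : x * u = u * x) : x ∈ (P : Subgroup H) :=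
  h.cent_eq hu hu1 ▸ mem_cent.2 hc

theorem faithful (h : PData H q p f d) [Fact p.Prime] : FaithfulSMul H (Sylow p H) := by
  refine ⟨fun {a b} hab => ?_⟩
  obtain ⟨P⟩ : Nonempty (Sylow p H) := inferInstance
  set x := b⁻¹ * a with hxdef
  have hx : ∀ S : Sylow p H, x • S = S := fun S => by rw [hxdef, mul_smul, hab, inv_smul_smul]
  suffices hx1 : x = 1 by exact (inv_mul_eq_one.1 hx1).symm
  obtain ⟨u, hu, hu1⟩ := (Subgroup.bot_or_exists_ne_one (P : Subgroup H)).resolve_left fun e => by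
    have := h.card_sylow P
    rw [e, Subgroup.card_bot] at this
    have := h.four_le
    omega
  obtain ⟨R, hR⟩ := h.exists_ne_sylow P
  have hmem : x * u * x⁻¹ * u⁻¹ ∈ (P : Subgroup H) := mul_mem
    ((Subgroup.mem_normalizer_iff.1 (Sylow.smul_eq_iff_mem_normalizer.1 (hx P)) u).1 hu) (inv_mem hu)
  have hcomm : x * u * x⁻¹ * u⁻¹ = 1 := h.eq_one_of_smul (Ne.symm hR) hmem (by
    have hx' : ∀ S : Sylow p H, x⁻¹ • S = S := fun S => inv_smul_eq_iff.2 (hx S).symm
    rw [mul_smul, mul_smul, mul_smul, hx', smul_inv_smul, hx])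
  exact h.eq_one_of_smul (Ne.symm hR) (h.mem_of_commute hu hu1
    (mul_inv_eq_iff_eq_mul.1 (mul_inv_eq_one.1 hcomm))) (hx R)

theorem fix_three (h : PData H q p f d) [Fact p.Prime] (g : H) (a b c : Sylow p H) (hab : a ≠ b)
    (hbc : b ≠ c) (hac : a ≠ c) (ha : g • a = a) (hb : g • b = b) (hc : g • c = c) : g = 1 := by
  obtain ⟨⟨u, hu⟩, hub, -⟩ :=
    h.existsUnique_smul (P := a) (R := b) (R' := c) (Ne.symm hab) (Ne.symm hac)
  replace hub : u • b = c := hub
  have hu1 : u ≠ 1 := fun e => hbc (by rwa [e, one_smul] at hub)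
  have hmem : u⁻¹ * (g * u * g⁻¹) ∈ (a : Subgroup H) := mul_mem (inv_mem hu)
    ((Subgroup.mem_normalizer_iff.1 (Sylow.smul_eq_iff_mem_normalizer.1 ha) u).1 hu)
  have hcomm : u⁻¹ * (g * u * g⁻¹) = 1 := h.eq_one_of_smul hab hmem (by
    rw [mul_smul, mul_smul, mul_smul, inv_smul_eq_iff.2 hb.symm, hub, hc, ← hub, inv_smul_smul])
  exact h.eq_one_of_smul hab (h.mem_of_commute hu hu1
    (mul_inv_eq_iff_eq_mul.1 (inv_mul_eq_one.1 hcomm).symm)) hb

theorem exists_fix_two (h : PData H q p f d) [Fact p.Prime] :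
    ∃ g : H, g ≠ 1 ∧ ∃ a b : Sylow p H, a ≠ b ∧ g • a = a ∧ g • b = b := by
  obtain ⟨a⟩ : Nonempty (Sylow p H) := inferInstance
  obtain ⟨b, hb⟩ := h.exists_ne_sylow a
  obtain ⟨g, hg, hga⟩ :
      ∃ g ∈ Subgroup.normalizer ((a : Subgroup H) : Set H), g ∉ (a : Subgroup H) := by
    refine SetLike.exists_of_lt (lt_of_le_of_ne Subgroup.le_normalizer fun e => ?_)
    have h1 := (h.sylow_data a).2
    rw [← e, h.card_sylow a, mul_comm d] at h1
    have h2 := Nat.eq_of_mul_eq_mul_left (show 0 < q by have := h.four_le; omega) h1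
    have := h.four_le
    rcases h.d_eq with ⟨e', -⟩ | ⟨e', -⟩ <;> omega
  have hgs : g • a = a := Sylow.smul_eq_iff_mem_normalizer.2 hg
  obtain ⟨u, hu, -⟩ := h.existsUnique_smul (P := a) (R := b) (R' := g • b) hb
    (fun e => hb (smul_left_cancel g (e.trans hgs.symm)))
  refine ⟨(u : H)⁻¹ * g, fun e => hga (inv_mul_eq_one.1 e ▸ u.2), a, b, Ne.symm hb, ?_, ?_⟩
  · rw [mul_smul, hgs, inv_smul_eq_iff, smul_self u.2]
  · rw [mul_smul, inv_smul_eq_iff, hu]

/-- No normal subgroup acts regularly. -/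
theorem exists_stabilizer_ne_bot (h : PData H q p f d) [Fact p.Prime] (N : Subgroup H)
    (hN : N.Normal) (hNt : IsPretransitive N (Sylow p H)) :
    ∃ a : Sylow p H, stabilizer N a ≠ ⊥ := by
  classical
  by_contra! hc
  obtain ⟨P⟩ : Nonempty (Sylow p H) := inferInstance
  have hq := h.four_le
  have hNc : Nat.card N = q + 1 := by
    rw [← (h.sylow_data P).1, ← index_stabilizer_of_transitive N P, hc P, Subgroup.index_bot]
  have hcop : Nat.Coprime q (q + 1) := by simp
  have hfree : ∀ u ∈ (P : Subgroup H), u ≠ 1 → ∀ n ∈ N, u * n = n * u → n = 1 := by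
    intro u hu hu1 n hn hun
    obtain ⟨k, hk⟩ := isRElem_of_mem P.isPGroup' (h.mem_of_commute hu hu1 hun.symm)
    exact orderOf_eq_one_iff.1 (Nat.eq_one_of_dvd_coprimes
      ((hcop.coprime_dvd_left h.p_dvd).pow_left k)
      (orderOf_dvd_of_pow_eq_one hk) (hNc ▸ N.orderOf_dvd_natCard hn))
  -- conjugation by `P` is transitive on the non-trivial elements
  have horb : ∀ n ∈ N, n ≠ 1 → ∀ m ∈ N, m ≠ 1 → ∃ u ∈ (P : Subgroup H), u * n * u⁻¹ = m := by
    intro n hn hn1 m hm hm1
    let φ : ↥(P : Subgroup H) → {x : N // x ≠ 1} := fun u =>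
      ⟨⟨(u : H) * n * (u : H)⁻¹, hN.conj_mem n hn u⟩,
        fun e => hn1 (conj_eq_one_iff.1 (congrArg Subtype.val e))⟩
    have hφ : Function.Injective φ := by
      intro u v e
      have e' : (u : H) * n * (u : H)⁻¹ = (v : H) * n * (v : H)⁻¹ :=
        congrArg Subtype.val (congrArg Subtype.val e)
      by_contra hne
      refine hn1 (hfree ((v : H)⁻¹ * u) (mul_mem (inv_mem v.2) u.2)
        (fun e0 => hne (Subtype.ext (inv_mul_eq_one.1 e0)).symm) n hn ?_)
      calc (v : H)⁻¹ * u * n = (v : H)⁻¹ * ((u : H) * n * (u : H)⁻¹) * u := by group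
        _ = _ := by rw [e']; group
    haveI := Fintype.ofFinite (P : Subgroup H)
    haveI := Fintype.ofFinite N
    have hbij : Function.Bijective φ := by
      refine (Fintype.bijective_iff_injective_and_card _).2 ⟨hφ, ?_⟩
      rw [← Nat.card_eq_fintype_card, h.card_sylow P, Fintype.card_subtype_compl,
        Fintype.card_subtype_eq, ← Nat.card_eq_fintype_card, hNc, Nat.add_sub_cancel]
    obtain ⟨u, hu⟩ := hbij.2 ⟨⟨m, hm⟩, fun e => hm1 (congrArg Subtype.val e)⟩
    exact ⟨u, u.2, congrArg Subtype.val (congrArg Subtype.val hu)⟩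
  -- the exponent is a prime
  obtain ⟨r, hr, hrN⟩ := Nat.exists_prime_and_dvd (show Nat.card N ≠ 1 by omega)
  haveI := Fact.mk hr
  obtain ⟨n₀, hn₀⟩ := exists_prime_orderOf_dvd_card' r hrN
  have hn1 : (n₀ : H) ≠ 1 := fun e => hr.ne_one (by
    rw [← hn₀, orderOf_eq_one_iff]; exact Subtype.ext e)
  have hexp : IsPGroup r N := fun x => ⟨1, by
    by_cases hx : x = 1
    · rw [hx, one_pow]
    obtain ⟨u, -, hu⟩ := horb n₀ n₀.2 hn1 x x.2 fun e => hx (Subtype.ext e)
    refine Subtype.ext ?_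
    rw [SubgroupClass.coe_pow, pow_one, ← hu, conj_pow, ← SubgroupClass.coe_pow, ← hn₀,
      pow_orderOf_eq_one, OneMemClass.coe_one, mul_one, mul_inv_cancel]⟩
  obtain ⟨i, hi⟩ := IsPGroup.iff_card.1 hexp
  refine h.no_reg r i n₀ hr (hNc.symm.trans hi) (isRElem_of_mem hexp n₀.2) hn1 ?_
  let ψ : ↥(P : Subgroup H) → H ⧸ centralizer ({(n₀ : H)} : Set H) := fun u => ((u : H) : _)
  have hψ : Function.Bijective ψ := by
    refine ⟨fun u v e => ?_, fun g => ?_⟩
    · have e' := mem_cent.1 (QuotientGroup.eq.1 e)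
      by_contra hne
      exact hn1 (hfree _ (mul_mem (inv_mem u.2) v.2)
        (fun e0 => hne (Subtype.ext (inv_mul_eq_one.1 e0))) n₀ n₀.2 e')
    · obtain ⟨g, rfl⟩ := QuotientGroup.mk_surjective g
      obtain ⟨u, hu, hug⟩ := horb n₀ n₀.2 hn1 (g * n₀ * g⁻¹) (hN.conj_mem _ n₀.2 g)
        (fun e => hn1 (conj_eq_one_iff.1 e))
      refine ⟨⟨u, hu⟩, QuotientGroup.eq.2 (mem_cent.2 ?_)⟩
      show u⁻¹ * g * (n₀ : H) = (n₀ : H) * (u⁻¹ * g)
      calc u⁻¹ * g * (n₀ : H) = u⁻¹ * (g * n₀ * g⁻¹) * g := by group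
        _ = _ := by rw [← hug]; group
  rw [Subgroup.index, ← Nat.card_eq_of_bijective ψ hψ, h.card_sylow P]

/-- The Zassenhaus group. -/
theorem isZassenhaus (h : PData H q p f d) [Fact p.Prime] :
    Cfsg.IsZassenhausGroup H (Sylow p H) :=
  ⟨h.faithful, h.two_pretransitive, h.fix_three, h.exists_fix_two, h.exists_stabilizer_ne_bot⟩

end PData

end CfsgLib.ClassSizePSLTwo
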