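import Cfsg.Agent.ClassSizePSLTwo.Sizes
import Cfsg.Agent.ClassSizePSLTwo.Quotient

/-!
# The central quotient of a group with the class sizes of `PSL(2, q)`

Commuting images of a `p`-element and an element of order prime to `p` lift to commuting elements,
so the centraliser of a `p`-element in the quotient is the image of a centraliser.
-/

set_option autoImplicit false
set_option linter.style.haveILetI false

namespace CfsgLib.ClassSizePSLTwo

open Subgroup

variable {G : Type*} [Group G]

/-- Elements of coprime orders commuting modulo the centre commute. -/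
theorem commute_of_mk {a b : G} {m n : ℕ} (ha : a ^ m = 1) (hb : b ^ n = 1)
    (hmn : Nat.Coprime m n) (hc : Commute (a : G ⧸ center G) (b : G ⧸ center G)) : Commute a b := by
  have hzZ : a * b * a⁻¹ * b⁻¹ ∈ center G := by
    rw [← QuotientGroup.eq_one_iff]
    simp only [QuotientGroup.mk_mul, QuotientGroup.mk_inv]
    rw [hc.eq]; group
  generalize hz : a * b * a⁻¹ * b⁻¹ = z at hzZ
  have hzc : ∀ g : G, Commute g z := mem_center_iff.1 hzZ
  have e1 : z ^ n = 1 := by
    have h1 : a * b * a⁻¹ = z * b := by rw [← hz]; group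
    have h2 : (a * b * a⁻¹) ^ n = z ^ n * b ^ n := by rw [h1, (hzc b).symm.mul_pow]
    rw [conj_pow, hb, mul_one, mul_one, mul_inv_cancel] at h2
    exact h2.symm
  have e2 : z ^ m = 1 := by
    have h1 : b * a * b⁻¹ = z⁻¹ * a := by rw [← hz]; group
    have h2 : (b * a * b⁻¹) ^ m = z⁻¹ ^ m * a ^ m := by
      rw [h1, (hzc a).symm.inv_left.mul_pow]
    rw [conj_pow, ha, mul_one, mul_one, mul_inv_cancel, inv_pow, eq_comm, inv_eq_one] at h2
    exact h2
  have hz1 : z = 1 := orderOf_eq_one_iff.1 (Nat.eq_one_of_dvd_coprimes hmn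
    (orderOf_dvd_of_pow_eq_one e2) (orderOf_dvd_of_pow_eq_one e1))
  rw [hz1, mul_inv_eq_one, mul_inv_eq_iff_eq_mul] at hz
  exact hz

variable [Finite G] {q p f d : ℕ}

namespace Core

omit [Finite G] in
theorem p_dvd (h : Core G q p f d) : p ∣ q := by
  refine h.q_eq ▸ dvd_pow_self p fun e => ?_
  have h1 := h.four_le
  have h2 := h.q_eq
  rw [e, pow_zero] at h2
  omega

omit [Finite G] in
theorem d_pos (h : Core G q p f d) : 0 < d := by
  rcases h.d_eq with ⟨e, -⟩ | ⟨e, -⟩ <;> omega

/-- The image of the centraliser of a non-central `p`-element has order `q`. -/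
theorem card_map_cent (h : Core G q p f d) {x : G} (hx : IsRElem p x) (hxZ : x ∉ center G) :
    Nat.card ((centralizer ({x} : Set G)).map (QuotientGroup.mk' (center G))) = q := by
  have h1 := card_map_cent_mul x
  have h2 := h.p_idx x hx hxZ
  have h3 := h.card
  refine Nat.eq_of_mul_eq_mul_right (show 0 < q ^ 2 - 1 by
    have := Nat.pow_le_pow_left h.four_le 2
    omega) ?_
  rw [← h3, ← h1, ← h2]; ring

/-- The central quotient. -/
theorem pData (h : Core G q p f d) : PData (G ⧸ center G) q p f d := by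
  haveI := Fact.mk h.prime
  have hN : Nat.card (G ⧸ center G) = (center G).index := rfl
  have hcop : Nat.Coprime q (q ^ 2 - 1) := by
    have h1 : 1 ≤ q ^ 2 := Nat.one_le_pow _ _ (by have := h.four_le; omega)
    refine Nat.coprime_of_dvd' fun r _ hrq hr => ?_
    have := Nat.dvd_sub (hrq.trans (dvd_pow_self q two_ne_zero)) hr
    rwa [Nat.sub_sub_self h1] at this
  have main : ∀ u : G ⧸ center G, IsRElem p u → u ≠ 1 →
      IsPGroup p (centralizer ({u} : Set (G ⧸ center G))) ∧
        Nat.card (centralizer ({u} : Set (G ⧸ center G))) = q := by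
    intro u hu hu1
    obtain ⟨g, rfl⟩ := QuotientGroup.mk_surjective u
    obtain ⟨x, -, hx, hxg⟩ := exists_lift h.prime (center G) (mem_top g) hu
    rw [← hxg] at hu hu1 ⊢
    have hxZ : x ∉ center G := fun hxZ => hu1 ((QuotientGroup.eq_one_iff x).2 hxZ)
    set C := (centralizer ({x} : Set G)).map (QuotientGroup.mk' (center G))
    have hC : Nat.card C = q := h.card_map_cent hx hxZ
    have hCp : IsPGroup p C := IsPGroup.of_card (n := f) (hC.trans h.q_eq)
    have hle : C ≤ centralizer ({(x : G ⧸ center G)} : Set _) := by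
      rintro _ ⟨c, hc, rfl⟩
      exact mem_cent.2 (((show Commute c x from mem_cent.1 hc).map (QuotientGroup.mk' (center G))).eq)
    have hp : IsPGroup p (centralizer ({(x : G ⧸ center G)} : Set _)) := by
      refine IsPGroup.of_card (n := (Nat.card
        (centralizer ({(x : G ⧸ center G)} : Set _))).primeFactorsList.length)
        (Nat.eq_prime_pow_of_unique_prime_dvd Nat.card_pos.ne' fun {r} hr hrd => ?_)
      by_contra hrp
      haveI := Fact.mk hr
      obtain ⟨⟨w, hw⟩, hwo⟩ := exists_prime_orderOf_dvd_card' r hrd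
      replace hwo : orderOf w = r := (Subgroup.orderOf_coe _).trans hwo
      obtain ⟨g', rfl⟩ := QuotientGroup.mk_surjective w
      obtain ⟨y, -, hy, hyg⟩ := exists_lift hr (center G) (mem_top g') ⟨1, by
        rw [pow_one]; exact hwo ▸ pow_orderOf_eq_one _⟩
      rw [← hyg] at hw hwo
      obtain ⟨k, hk⟩ := hx
      obtain ⟨j, hj⟩ := hy
      have hcomm : Commute y x := commute_of_mk hj hk
        (((Nat.coprime_primes hr h.prime).2 hrp).pow j k) (mem_cent.1 hw)
      obtain ⟨i, hi⟩ := isRElem_of_mem hCp ⟨y, mem_cent.2 hcomm.eq, rfl⟩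
      refine hr.ne_one (Nat.eq_one_of_dvd_coprimes (((Nat.coprime_primes hr h.prime).2 hrp).pow 1 i)
        (by rw [pow_one]) ?_)
      rw [← hwo]
      exact orderOf_dvd_of_pow_eq_one hi
    refine ⟨hp, Nat.dvd_antisymm ?_ (hC ▸ Subgroup.card_dvd_of_le hle)⟩
    obtain ⟨k, hk⟩ := IsPGroup.iff_card.1 hp
    have h1 : p ^ k ∣ d * (center G).index := (hk ▸ hN ▸ card_subgroup_dvd_card _).mul_left d
    rw [h.card] at h1
    rw [hk]
    exact ((hcop.coprime_dvd_left h.p_dvd).pow_left k).dvd_of_dvd_mul_right h1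
  refine ⟨h.prime, h.q_eq, h.four_le, h.d_eq, h.card, fun u hu hu1 => (main u hu hu1).1,
    fun u hu hu1 => (main u hu hu1).2, ?_⟩
  intro r i u hr hi hu hu1 hidx
  obtain ⟨g, rfl⟩ := QuotientGroup.mk_surjective u
  obtain ⟨x, -, hx, hxg⟩ := exists_lift hr (center G) (mem_top g) hu
  rw [← hxg] at hu1 hidx
  have hxZ : x ∉ center G := fun hxZ => hu1 ((QuotientGroup.eq_one_iff x).2 hxZ)
  set K := (centralizer ({(x : G ⧸ center G)} : Set _)).comap (QuotientGroup.mk' (center G))
  have hKi : K.index = q := (index_comap_of_surjective _ (QuotientGroup.mk'_surjective _)).trans hidx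
  have hKz : ∀ k ∈ K, k * x * k⁻¹ * x⁻¹ ∈ center G := by
    intro k hk
    rw [← QuotientGroup.eq_one_iff]
    simp only [QuotientGroup.mk_mul, QuotientGroup.mk_inv]
    rw [show (k : G ⧸ center G) * x = x * k from mem_cent.1 hk]; group
  let φ : K →* G :=
    { toFun := fun k => (k : G) * x * (k : G)⁻¹ * x⁻¹
      map_one' := by simp
      map_mul' := fun k l => by
        rw [Subgroup.coe_mul]
        have hl := mem_center_iff.1 (hKz l l.2) (k : G)
        calc (k : G) * l * x * ((k : G) * l)⁻¹ * x⁻¹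
            = (k : G) * ((l : G) * x * (l : G)⁻¹ * x⁻¹) * (x * (k : G)⁻¹ * x⁻¹) := by group
          _ = ((l : G) * x * (l : G)⁻¹ * x⁻¹) * ((k : G) * x * (k : G)⁻¹ * x⁻¹) := by
                rw [hl]; group
          _ = _ := (mem_center_iff.1 (hKz l l.2) _).symm }
  have hker : φ.ker = (centralizer ({x} : Set G)).subgroupOf K := by
    ext k
    rw [MonoidHom.mem_ker, mem_subgroupOf, mem_cent]
    show (k : G) * x * (k : G)⁻¹ * x⁻¹ = 1 ↔ _
    rw [mul_inv_eq_one, mul_inv_eq_iff_eq_mul]
  have hle : centralizer ({x} : Set G) ≤ K := fun c hc =>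
    mem_cent.2 (((show Commute c x from mem_cent.1 hc).map (QuotientGroup.mk' (center G))).eq)
  obtain ⟨k, hk⟩ := hx
  have hrange : IsPGroup r φ.range := by
    rintro ⟨_, a, rfl⟩
    refine ⟨k, Subtype.ext ?_⟩
    have hz := hKz a a.2
    have h1 : ((a : G) * x * (a : G)⁻¹ * x⁻¹) * x = (a : G) * x * (a : G)⁻¹ := by group
    have h2 := congrArg (· ^ r ^ k) h1
    simp only [(show Commute _ x from (mem_center_iff.1 hz x).symm).mul_pow, conj_pow, hk, mul_one,
      mul_inv_cancel] at h2
    exact h2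
  haveI := Fact.mk hr
  obtain ⟨j, hj⟩ := IsPGroup.iff_card.1 hrange
  refine h.no_reg r i j x hr hi ⟨k, hk⟩ hxZ ?_
  have h1 := relIndex_mul_index hle
  rw [hKi, relIndex, ← hker, Subgroup.index_ker, hj] at h1
  rw [idx, ← h1, mul_comm]

end Core

end CfsgLib.ClassSizePSLTwo
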