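import Mathlib

/-!
# Class sizes and parts of elements

Tools for groups given by their class sizes: primary parts, centralisers of products of commuting
elements of coprime orders, isolated sizes, and the criterion that no prime divides the quotient
of the index of the centre by the expected order.
-/

set_option autoImplicit false
set_option linter.style.haveILetI false

namespace CfsgLib.ClassSizePSLTwo

open Subgroup

variable {G : Type*} [Group G]

/-- The size of the class of `x`. -/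
noncomputable def idx (x : G) : ℕ := (centralizer ({x} : Set G)).index

/-- An element of `r`-power order. -/
def IsRElem (r : ℕ) (x : G) : Prop := ∃ k : ℕ, x ^ r ^ k = 1

/-- An element of order prime to `r`. -/
def IsRPrimeElem (r : ℕ) (x : G) : Prop := ∃ b : ℕ, ¬ r ∣ b ∧ x ^ b = 1

theorem mem_cent {x g : G} : g ∈ centralizer ({x} : Set G) ↔ g * x = x * g :=
  mem_centralizer_singleton_iff

theorem self_mem_cent (x : G) : x ∈ centralizer ({x} : Set G) := mem_cent.2 rfl

theorem idx_eq_one_iff {x : G} : idx x = 1 ↔ x ∈ center G := by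
  rw [idx, index_eq_one, eq_top_iff']
  simp only [mem_cent, mem_center_iff]

theorem idx_ne_one {x : G} (h : x ∉ center G) : idx x ≠ 1 := fun e => h (idx_eq_one_iff.1 e)

theorem notMem_center_of_idx {x : G} {T : ℕ} (h : idx x = T) (hT : T ≠ 1) : x ∉ center G :=
  fun hx => hT (h.symm.trans (idx_eq_one_iff.2 hx))

theorem idx_conj (g x : G) : idx (g * x * g⁻¹) = idx x := by
  have h : centralizer ({g * x * g⁻¹} : Set G) =
      (centralizer ({x} : Set G)).comap (MulAut.conj g⁻¹ : MulAut G).toMonoidHom := by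
    ext y
    simp only [mem_comap, mem_cent, MulEquiv.coe_toMonoidHom, MulAut.conj_apply, inv_inv]
    constructor
    · intro h
      calc g⁻¹ * y * g * x = g⁻¹ * (y * (g * x * g⁻¹)) * g := by group
        _ = _ := by rw [h]; group
    · intro h
      calc y * (g * x * g⁻¹) = g * (g⁻¹ * y * g * x) * g⁻¹ := by group
        _ = _ := by rw [h]; group
  rw [idx, idx, h, index_comap_of_surjective _ (MulAut.conj g⁻¹ : MulAut G).surjective]

theorem center_le_cent (x : G) : center G ≤ centralizer ({x} : Set G) := fun z hz =>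
  mem_cent.2 ((mem_center_iff.1 hz x).symm)

/-- The order of the image of the centraliser. -/
theorem card_map_cent_mul [Finite G] (x : G) :
    Nat.card ((centralizer ({x} : Set G)).map (QuotientGroup.mk' (center G))) * idx x =
      (center G).index := by
  have h1 : ((centralizer ({x} : Set G)).map (QuotientGroup.mk' (center G))).index = idx x :=
    index_map_eq _ (QuotientGroup.mk'_surjective _)
      ((QuotientGroup.ker_mk' (center G)).symm ▸ center_le_cent x)
  rw [← h1, card_mul_index]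
  exact rfl

theorem idx_dvd_index [Finite G] (x : G) : idx x ∣ (center G).index :=
  ⟨_, ((mul_comm _ _).trans (card_map_cent_mul x)).symm⟩

theorem idx_dvd_of_le {x y : G} (h : centralizer ({x} : Set G) ≤ centralizer {y}) :
    idx y ∣ idx x := index_dvd_of_le h

theorem cent_le_pow (x : G) (n : ℕ) : centralizer ({x} : Set G) ≤ centralizer {x ^ n} :=
  fun _ hg => mem_cent.2 ((show Commute _ x from mem_cent.1 hg).pow_right n).eq

theorem mem_center_mul_right {u v : G} (hu : u ∈ center G) :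
    centralizer ({u * v} : Set G) = centralizer {v} := by
  ext g
  simp only [mem_cent]
  have hc := mem_center_iff.1 hu g
  constructor
  · intro h
    apply mul_left_cancel (a := u)
    rw [← mul_assoc, ← hc, mul_assoc, h, mul_assoc]
  · intro h
    rw [← mul_assoc, hc, mul_assoc, h, mul_assoc]

/-- Primary decomposition. -/
theorem exists_parts [Finite G] {r : ℕ} (hr : r.Prime) (x : G) :
    ∃ a b : ℕ, IsRElem r (x ^ a) ∧ IsRPrimeElem r (x ^ b) ∧ x = x ^ a * x ^ b := by
  set o := orderOf x with ho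
  have ho0 : o ≠ 0 := (orderOf_pos x).ne'
  set A := r ^ o.factorization r with hA
  set B := o / r ^ o.factorization r with hB
  have hAB : A * B = o := Nat.ordProj_mul_ordCompl_eq_self o r
  have hcop : Nat.Coprime B A :=
    ((Nat.coprime_ordCompl hr ho0).pow_left _).symm
  obtain ⟨s, hs⟩ : ∃ s : ℕ, B * s ≡ 1 [MOD A] := by
    rcases Nat.lt_or_ge 1 A with h | h
    · obtain ⟨s, -, hs⟩ := Nat.exists_mul_mod_eq_one_of_coprime hcop h
      exact ⟨s, by unfold Nat.ModEq; rw [hs, Nat.one_mod_eq_one.2 (by omega)]⟩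
    · exact ⟨0, by
        have : 0 < A := pow_pos hr.pos _
        rw [show A = 1 by omega]; exact Nat.modEq_one⟩
  refine ⟨B * s, 1 + o * (B * s) - B * s, ?_, ?_, ?_⟩
  · refine ⟨o.factorization r, ?_⟩
    rw [← pow_mul, show B * s * A = o * s by rw [← hAB]; ring, pow_mul, pow_orderOf_eq_one, one_pow]
  · refine ⟨B, Nat.not_dvd_ordCompl hr ho0, ?_⟩
    rw [← pow_mul]
    refine orderOf_dvd_iff_pow_eq_one.1 ?_
    have ho1 : 1 ≤ o := Nat.one_le_iff_ne_zero.2 ho0
    have hle : B * s ≤ o * (B * s) := Nat.le_mul_of_pos_left _ ho1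
    have h1 : A ∣ 1 + o * (B * s) - B * s := by
      rw [← Nat.modEq_iff_dvd' (by omega)]
      refine hs.trans ?_
      have : o * (B * s) ≡ 0 [MOD A] :=
        Nat.modEq_zero_iff_dvd.2 ((Dvd.intro B hAB).mul_right _)
      simpa using (Nat.ModEq.add_left 1 this).symm
    have h2 := Nat.mul_dvd_mul_right h1 B
    rw [hAB] at h2
    rwa [← ho]
  · have ho1 : 1 ≤ o := Nat.one_le_iff_ne_zero.2 ho0
    have hle : B * s ≤ o * (B * s) := Nat.le_mul_of_pos_left _ ho1
    rw [← pow_add, show B * s + (1 + o * (B * s) - B * s) = 1 + o * (B * s) by omega,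
      pow_add, pow_one, pow_mul, ho, pow_orderOf_eq_one, one_pow, mul_one]

theorem IsRElem.pow {r : ℕ} {x : G} (h : IsRElem r x) (n : ℕ) : IsRElem r (x ^ n) := by
  obtain ⟨k, hk⟩ := h
  exact ⟨k, by rw [← pow_mul, mul_comm, pow_mul, hk, one_pow]⟩

theorem IsRElem.conj {r : ℕ} {x : G} (h : IsRElem r x) (g : G) : IsRElem r (g * x * g⁻¹) := by
  obtain ⟨k, hk⟩ := h
  exact ⟨k, by rw [conj_pow, hk, mul_one, mul_inv_cancel]⟩

/-- Commuting elements of coprime orders. -/
theorem cent_mul_eq {u v : G} {a b : ℕ} (hc : Commute u v) (hu : u ^ a = 1) (hv : v ^ b = 1)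
    (hab : Nat.Coprime a b) :
    centralizer ({u * v} : Set G) = centralizer {u} ⊓ centralizer {v} := by
  have hpart : ∀ {u v : G} {a b : ℕ}, Commute u v → u ^ a = 1 → v ^ b = 1 → Nat.Coprime a b →
      centralizer ({u * v} : Set G) ≤ centralizer {v} := by
    intro u v a b hc hu hv hab g hg
    refine mem_cent.2 ?_
    rcases Nat.lt_or_ge 1 b with hb | hb
    · obtain ⟨s, -, hs⟩ := Nat.exists_mul_mod_eq_one_of_coprime hab hb
      have h1 : (u * v) ^ (a * s) = v := by
        rw [hc.mul_pow, pow_mul, hu, one_pow, one_mul, ← Nat.mod_add_div (a * s) b, hs, pow_add,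
          pow_one, pow_mul, hv, one_pow, mul_one]
      rw [← h1]
      exact ((show Commute g (u * v) from mem_cent.1 hg).pow_right _).eq
    · rcases Nat.le_one_iff_eq_zero_or_eq_one.1 hb with rfl | rfl
      · rw [Nat.coprime_zero_right] at hab
        subst hab
        rw [pow_one] at hu
        subst hu
        rw [one_mul] at hg
        exact mem_cent.1 hg
      · rw [pow_one] at hv
        rw [hv, mul_one, one_mul]
  refine le_antisymm (le_inf ?_ (hpart hc hu hv hab)) fun g hg => mem_cent.2 ?_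
  · rw [hc.eq]
    exact hpart hc.symm hv hu hab.symm
  · exact ((show Commute g u from mem_cent.1 hg.1).mul_right (mem_cent.1 hg.2)).eq

theorem cent_mul_of_parts {r : ℕ} (hr : r.Prime) {u v : G} (hc : Commute u v) (hu : IsRElem r u)
    (hv : IsRPrimeElem r v) :
    centralizer ({u * v} : Set G) = centralizer {u} ⊓ centralizer {v} := by
  obtain ⟨k, hk⟩ := hu
  obtain ⟨b, hb, hb'⟩ := hv
  exact cent_mul_eq hc hk hb' ((hr.coprime_iff_not_dvd.2 hb).pow_left k)

/-- An element of `r`-power order in the image lifts to one. -/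
theorem exists_lift [Finite G] {r : ℕ} (hr : r.Prime) (N : Subgroup G) [N.Normal] {H : Subgroup G}
    {g : G} (hg : g ∈ H) (hr' : IsRElem r (g : G ⧸ N)) :
    ∃ h ∈ H, IsRElem r h ∧ (h : G ⧸ N) = g := by
  obtain ⟨a, b, ha, ⟨c, hc, hc'⟩, hab⟩ := exists_parts hr g
  refine ⟨g ^ a, H.pow_mem hg a, ha, ?_⟩
  obtain ⟨k, hk⟩ := hr'
  have h1 : ((g ^ b : G) : G ⧸ N) = 1 := by
    rw [← orderOf_eq_one_iff]
    refine Nat.eq_one_of_dvd_coprimes ((hr.coprime_iff_not_dvd.2 hc).pow_left k)
      (orderOf_dvd_of_pow_eq_one ?_) (orderOf_dvd_of_pow_eq_one ?_)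
    · rw [QuotientGroup.mk_pow, ← pow_mul, mul_comm, pow_mul, hk, one_pow]
    · rw [← QuotientGroup.mk_pow, hc', QuotientGroup.mk_one]
  conv_rhs => rw [hab]
  rw [QuotientGroup.mk_mul, h1, mul_one]

/-- A class size such that no other one divides it or is divisible by it. -/
def Isolated (G : Type*) [Group G] (T : ℕ) : Prop :=
  T ≠ 1 ∧ ∀ x : G, x ∉ center G → (idx x ∣ T ∨ T ∣ idx x) → idx x = T

theorem Isolated.cent_eq [Finite G] {T : ℕ} (hT : Isolated G T) {u v : G} (hu : idx u = T)
    (hv : v ∉ center G) (heq : centralizer ({u * v} : Set G) = centralizer {u} ⊓ centralizer {v}) :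
    centralizer ({v} : Set G) = centralizer {u} := by
  have hle : centralizer ({u * v} : Set G) ≤ centralizer {u} := heq ▸ inf_le_left
  have hne : u * v ∉ center G := fun h => notMem_center_of_idx hu hT.1
    (idx_eq_one_iff.1 (Nat.eq_one_of_dvd_one (idx_eq_one_iff.2 h ▸ idx_dvd_of_le hle)))
  have h1 : idx (u * v) = T := hT.2 _ hne (Or.inr (hu ▸ idx_dvd_of_le hle))
  have key : ∀ {H K : Subgroup G}, H ≤ K → H.index = K.index → H = K := by
    intro H K hHK e
    have hH := H.card_mul_index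
    rw [e, ← K.card_mul_index] at hH
    exact Subgroup.eq_of_le_of_card_ge hHK
      (Nat.eq_of_mul_eq_mul_right (Nat.pos_of_ne_zero K.index_ne_zero_of_finite) hH).ge
  have h2 : centralizer ({u * v} : Set G) = centralizer {u} := key hle (h1.trans hu.symm)
  have h3 : centralizer ({u} : Set G) ≤ centralizer {v} := h2 ▸ heq ▸ inf_le_right
  exact (key h3 (hu.trans (hT.2 v hv (Or.inl (hu ▸ idx_dvd_of_le h3))).symm)).symm

/-- An isolated size with image of order divisible by `r` is the size of an `r`-element. -/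
theorem Isolated.exists_relem [Finite G] {T r a : ℕ} (hr : r.Prime) (hT : Isolated G T)
    (hex : ∃ x : G, idx x = T) (hN : (center G).index = a * T) (hra : r ∣ a) :
    ∃ w : G, IsRElem r w ∧ idx w = T := by
  haveI := Fact.mk hr
  obtain ⟨x, hx⟩ := hex
  have hT0 : 0 < T := hx ▸ Nat.pos_of_ne_zero Subgroup.index_ne_zero_of_finite
  have hcard : Nat.card ((centralizer ({x} : Set G)).map (QuotientGroup.mk' (center G))) = a := by
    have h := card_map_cent_mul x
    rw [hx, hN] at h
    exact Nat.eq_of_mul_eq_mul_right hT0 h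
  obtain ⟨⟨_, g, hg, rfl⟩, ho⟩ := exists_prime_orderOf_dvd_card' r (hcard.symm ▸ hra)
  rw [← Subgroup.orderOf_coe] at ho
  obtain ⟨w, hwC, hwr, hw⟩ := exists_lift hr (center G) hg
    ⟨1, by rw [pow_one, ← ho]; exact pow_orderOf_eq_one _⟩
  have hwZ : w ∉ center G := fun h => by
    rw [← QuotientGroup.eq_one_iff, hw] at h
    exact hr.ne_one (ho.symm.trans (orderOf_eq_one_iff.2 h))
  obtain ⟨c, d, hc, hd, hcd⟩ := exists_parts hr x
  have hcomm : Commute (x ^ c) (x ^ d) := Commute.pow_pow_self x c d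
  by_cases hdZ : x ^ d ∈ center G
  · refine ⟨x ^ c, hc, ?_⟩
    have h : centralizer ({x ^ d * x ^ c} : Set G) = centralizer {x ^ c} := mem_center_mul_right hdZ
    rw [← hcomm.eq, ← hcd] at h
    rw [idx, ← h]
    exact hx
  · have hd' : idx (x ^ d) = T := hT.2 _ hdZ (Or.inl (hx ▸ idx_dvd_of_le (cent_le_pow x d)))
    have hwd : Commute w (x ^ d) := (show Commute w x from mem_cent.1 hwC).pow_right d
    refine ⟨w, hwr, ?_⟩
    have h := hT.cent_eq hd' hwZ (by
      rw [← hwd.eq, inf_comm]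
      exact cent_mul_of_parts hr hwd hwr hd)
    rw [idx, h]
    exact hd'

/-- The two possibilities for the centraliser of an `r`-element of isolated size. -/
theorem Isolated.cent_or_isPGroup [Finite G] {T r : ℕ} (hr : r.Prime) (hT : Isolated G T) {w : G}
    (hwr : IsRElem r w) (hw : idx w = T) :
    (∀ v ∈ centralizer ({w} : Set G), IsRElem r v → v ∉ center G →
      centralizer ({v} : Set G) = centralizer {w}) ∨
    IsPGroup r ((centralizer ({w} : Set G)).map (QuotientGroup.mk' (center G))) := by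
  by_cases h : ∃ u ∈ centralizer ({w} : Set G), IsRPrimeElem r u ∧ u ∉ center G
  · obtain ⟨u, hu, hur, huZ⟩ := h
    have hwu : Commute w u := (mem_cent.1 hu).symm
    have hC := hT.cent_eq hw huZ (cent_mul_of_parts hr hwu hwr hur)
    have hui : idx u = T := by rw [idx, hC]; exact hw
    refine Or.inl fun v hv hvr hvZ => ?_
    rw [← hC] at hv
    have hvu : Commute v u := mem_cent.1 hv
    rw [← hC]
    exact hT.cent_eq hui hvZ (by rw [← hvu.eq, inf_comm]; exact cent_mul_of_parts hr hvu hvr hur)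
  · push Not at h
    refine Or.inr ?_
    rintro ⟨_, g, hg, rfl⟩
    obtain ⟨a, b, ⟨k, hk⟩, hb, hab⟩ := exists_parts hr g
    refine ⟨k, Subtype.ext ?_⟩
    rw [SubgroupClass.coe_pow, coe_one]
    show (QuotientGroup.mk' (center G) g) ^ r ^ k = 1
    conv_lhs => rw [hab]
    rw [map_mul, show QuotientGroup.mk' (center G) (g ^ b) = 1 from
      (QuotientGroup.eq_one_iff _).2 (h _ (pow_mem hg b) hb), mul_one, ← map_pow, hk, map_one]

/-- An `r`-element whose class size is prime to `r` is central in a Sylow subgroup. -/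
theorem exists_sylow_le_cent [Finite G] {r : ℕ} [Fact r.Prime] {y : G} (hy : IsRElem r y)
    (h : ¬ r ∣ idx y) :
    ∃ S : Sylow r G, y ∈ (S : Subgroup G) ∧ (S : Subgroup G) ≤ centralizer ({y} : Set G) := by
  obtain ⟨R⟩ : Nonempty (Sylow r (centralizer ({y} : Set G))) := inferInstance
  have hsub : IsPGroup r (zpowers y) := by
    obtain ⟨k, hk⟩ := hy
    rintro ⟨_, n, rfl⟩
    exact ⟨k, Subtype.ext (by
      rw [SubgroupClass.coe_pow, coe_one, ← zpow_natCast, zpow_comm, zpow_natCast, hk, one_zpow])⟩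
  have hidx : ¬ r ∣ ((R : Subgroup _).map (centralizer ({y} : Set G)).subtype).index := by
    rw [index_map_subtype]
    exact (Nat.Prime.not_dvd_mul Fact.out R.not_dvd_index h)
  refine ⟨(R.isPGroup'.map (centralizer ({y} : Set G)).subtype).toSylow hidx, ?_, map_subtype_le _⟩
  refine ⟨⟨y, self_mem_cent y⟩, ?_, rfl⟩
  have hyN : (zpowers (⟨y, self_mem_cent y⟩ : centralizer ({y} : Set G))).Normal := ⟨fun n hn g => by
    obtain ⟨k, rfl⟩ := hn
    have hc : Commute g (⟨y, self_mem_cent y⟩ : centralizer ({y} : Set G)) :=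
      Subtype.ext (mem_cent.1 g.2)
    rw [(hc.zpow_right k).eq, mul_inv_cancel_right]
    exact ⟨k, rfl⟩⟩
  have hyp : IsPGroup r (zpowers (⟨y, self_mem_cent y⟩ : centralizer ({y} : Set G))) := by
    refine (hsub.comap_subtype (K := centralizer ({y} : Set G))).to_le ?_
    rw [zpowers_le]
    exact mem_zpowers y
  obtain ⟨R', hR'⟩ := hyp.exists_le_sylow
  obtain ⟨g, hg⟩ := MulAction.exists_smul_eq (centralizer ({y} : Set G)) R' R
  have := hR' (mem_zpowers _)
  rw [← hg, Sylow.coe_subgroup_smul, SetLike.mem_coe, mem_pointwise_smul_iff_inv_smul_mem,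
    MulAut.smul_def, ← map_inv MulAut.conj, MulAut.conj_apply]
  have hc : Commute g⁻¹ (⟨y, self_mem_cent y⟩ : centralizer ({y} : Set G)) :=
    Subtype.ext (mem_cent.1 (g⁻¹).2)
  rw [hc.eq, mul_inv_cancel_right]
  exact this

/-- No prime `r` divides both cofactors of two isolated sizes, unless `r` divides both sizes. -/
theorem dvd_sizes [Finite G] {r T₁ T₂ c a₁ a₂ : ℕ} (hr : r.Prime) (h₁ : Isolated G T₁)
    (h₂ : Isolated G T₂) (e₁ : ∃ x : G, idx x = T₁) (e₂ : ∃ x : G, idx x = T₂) (hne : T₁ ≠ T₂)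
    (hN₁ : (center G).index = r * c * a₁ * T₁) (hN₂ : (center G).index = r * c * a₂ * T₂)
    (ha₁ : 1 < a₁) (ha₂ : 1 < a₂) (hcop : Nat.Coprime a₁ a₂) :
    (∀ y : G, IsRElem r y → y ∉ center G → r ∣ idx y) ∧ r ∣ T₁ ∧ r ∣ T₂ := by
  haveI := Fact.mk hr
  have w₁ := h₁.exists_relem hr e₁ hN₁ ((dvd_mul_right r c).mul_right a₁)
  have w₂ := h₂.exists_relem hr e₂ hN₂ ((dvd_mul_right r c).mul_right a₂)
  suffices key : ∀ y : G, IsRElem r y → y ∉ center G → r ∣ idx y by
    obtain ⟨w, hw, hwi⟩ := w₁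
    obtain ⟨w', hw', hwi'⟩ := w₂
    exact ⟨key, hwi ▸ key w hw (notMem_center_of_idx hwi h₁.1),
      hwi' ▸ key w' hw' (notMem_center_of_idx hwi' h₂.1)⟩
  intro y hy hyZ
  by_contra hndvd
  obtain ⟨S, hyS, hSC⟩ := exists_sylow_le_cent hy hndvd
  have alt : ∀ {T a : ℕ}, Isolated G T → (center G).index = a * T →
      (∃ w : G, IsRElem r w ∧ idx w = T) → idx y = T ∨ ∃ i, a = r ^ i := by
    intro T a hT hN hw
    obtain ⟨w, hwr, hwi⟩ := hw
    have hp : IsPGroup r (zpowers w) := by
      obtain ⟨k, hk⟩ := hwr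
      rintro ⟨_, n, rfl⟩
      exact ⟨k, Subtype.ext (by
        rw [SubgroupClass.coe_pow, coe_one, ← zpow_natCast, zpow_comm, zpow_natCast, hk, one_zpow])⟩
    obtain ⟨S', hS'⟩ := hp.exists_le_sylow
    obtain ⟨g, hg⟩ := MulAction.exists_smul_eq G S' S
    have hwS : g * w * g⁻¹ ∈ (S : Subgroup G) := by
      rw [← hg, Sylow.coe_subgroup_smul, mem_pointwise_smul_iff_inv_smul_mem, MulAut.smul_def,
        ← map_inv MulAut.conj, MulAut.conj_apply]
      simpa [mul_assoc] using hS' (mem_zpowers w)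
    have hwi' : idx (g * w * g⁻¹) = T := by rw [idx_conj, hwi]
    rcases hT.cent_or_isPGroup hr (hwr.conj g) hwi' with h | h
    · refine Or.inl ?_
      rw [← hwi', idx, idx, h y (mem_cent.2 (mem_cent.1 (hSC hwS)).symm) hy hyZ]
    · refine Or.inr ?_
      obtain ⟨i, hi⟩ := IsPGroup.iff_card.1 h
      have h' := card_map_cent_mul (g * w * g⁻¹)
      rw [hwi', hN, hi] at h'
      exact ⟨i, (Nat.eq_of_mul_eq_mul_right
        (hwi' ▸ Nat.pos_of_ne_zero Subgroup.index_ne_zero_of_finite) h').symm⟩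
  have dvd_a : ∀ {a : ℕ}, 1 < a → (∃ i, r * c * a = r ^ i) → r ∣ a := by
    intro a ha hi
    obtain ⟨i, hi⟩ := hi
    obtain ⟨j, -, rfl⟩ := (Nat.dvd_prime_pow hr).1 (show a ∣ r ^ i from hi ▸ Dvd.intro_left _ rfl)
    refine dvd_pow_self r ?_
    rintro rfl
    simp at ha
  rcases alt h₁ hN₁ w₁ with h | h
  · rcases alt h₂ hN₂ w₂ with h' | h'
    · exact hne (h.symm.trans h')
    · have hrc : r * c ≠ 0 := fun e => Subgroup.index_ne_zero_of_finite (by
        rw [hN₁, e]; simp)
      have h3 : r ∣ a₁ * T₁ := by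
        rw [show a₁ * T₁ = a₂ * T₂ from Nat.eq_of_mul_eq_mul_left (Nat.pos_of_ne_zero hrc)
          (by rw [← mul_assoc, ← mul_assoc, ← hN₁, ← hN₂])]
        exact (dvd_a ha₂ h').mul_right _
      rcases hr.dvd_mul.1 h3 with h4 | h4
      · exact hr.ne_one (Nat.eq_one_of_dvd_coprimes hcop h4 (dvd_a ha₂ h'))
      · exact hndvd (h ▸ h4)
  · rcases alt h₂ hN₂ w₂ with h' | h'
    · have hrc : r * c ≠ 0 := fun e => Subgroup.index_ne_zero_of_finite (by
        rw [hN₁, e]; simp)
      have h3 : r ∣ a₂ * T₂ := by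
        rw [show a₂ * T₂ = a₁ * T₁ from Nat.eq_of_mul_eq_mul_left (Nat.pos_of_ne_zero hrc)
          (by rw [← mul_assoc, ← mul_assoc, ← hN₁, ← hN₂])]
        exact (dvd_a ha₁ h).mul_right _
      rcases hr.dvd_mul.1 h3 with h4 | h4
      · exact hr.ne_one (Nat.eq_one_of_dvd_coprimes hcop (dvd_a ha₁ h) h4)
      · exact hndvd (h' ▸ h4)
    · exact hr.ne_one (Nat.eq_one_of_dvd_coprimes hcop (dvd_a ha₁ h) (dvd_a ha₂ h'))

end CfsgLib.ClassSizePSLTwo
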