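import Cfsg.Agent.ClassSizePSLTwo.Split
import Cfsg.Agent.S2507
import Cfsg.Agent.S2508

/-!
# Groups with the class sizes of `PSL(2, q)`
-/

set_option autoImplicit false
set_option linter.style.haveILetI false

namespace CfsgLib.ClassSizePSLTwo

open Subgroup
open scoped MatrixGroups

variable {G : Type*} [Group G] [Finite G] {F : Type*} [Field F] [Fintype F]

/-- The class sizes give the core facts. -/
theorem exists_core
    (hq : (2 ∣ Fintype.card F ∧ 2 < Fintype.card F) ∨ (¬ 2 ∣ Fintype.card F ∧ 7 ≤ Fintype.card F))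
    (h : Set.range (fun g : G => idx g) =
      Set.range (fun g : PSL(2, F) => (centralizer ({g} : Set PSL(2, F))).index)) :
    ∃ p f d : ℕ, Core G (Fintype.card F) p f d := by
  obtain ⟨p, hchar⟩ := CharP.exists F
  obtain ⟨f, hp, hpf⟩ := FiniteField.card F p
  rcases hq with ⟨h2, h2'⟩ | ⟨hodd, h7⟩
  · have h4 : 4 ≤ Fintype.card F := by omega
    exact ⟨p, f, 1, core_even hp hpf h2 h4 (h.trans (Cfsg.Agent.S2507.result h2 h4))⟩
  obtain ⟨h1, h3⟩ := Cfsg.Agent.S2508.result (F := F) hodd h7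
  set q := Fintype.card F
  refine ⟨p, f, 2, ?_⟩
  obtain ⟨a, ha⟩ : ∃ a, q = 2 * a + 1 := ⟨q / 2, by omega⟩
  have hsq : q ^ 2 - 1 = 4 * (a * (a + 1)) := by rw [ha]; exact Nat.sub_eq_of_eq_add (by ring)
  have hh : (q ^ 2 - 1) / 2 = 2 * (a * (a + 1)) := by omega
  have hm : q * (q - 1) = 2 * (q * a) := by rw [show q - 1 = 2 * a by omega]; ring
  have hp' : q * (q + 1) = 2 * (q * (a + 1)) := by rw [show q + 1 = 2 * (a + 1) by omega]; ring
  rcases Nat.lt_or_ge 1 (q % 4) with h4 | h4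
  · refine core_odd (n := a + 1) (m := a) hp hpf hodd h7 (by rw [hsq]; ring) (by omega) (by omega)
      (Or.inl ⟨by omega, by omega⟩) ?_
    rw [h, h3 (by omega), hh, hm, hp', Nat.mul_div_cancel_left _ two_pos, mul_comm a (a + 1)]
  · refine core_odd (n := a) (m := a + 1) hp hpf hodd h7 (by rw [hsq]) (by omega) (by omega)
      (Or.inr ⟨by omega, by omega⟩) ?_
    rw [h, h1 (by omega), hh, hm, hp', Nat.mul_div_cancel_left _ two_pos]

end CfsgLib.ClassSizePSLTwo
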