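import Cfsg.Agent.ClassSizePSLTwo.Quotient
import Cfsg.Agent.PSLTwoSpectrum.Main

/-!
# The central quotient is `PSL(2, q)`
-/

set_option autoImplicit false
set_option linter.style.haveILetI false

namespace CfsgLib.ClassSizePSLTwo

open MulAction
open scoped MatrixGroups

namespace PData

variable {H : Type*} [Group H] [Finite H] {p f d : ℕ} {F : Type*} [Field F] [Fintype F]

/-- No Suzuki group has the order `q (q² - 1)`. -/
theorem not_suzuki_card {q m : ℕ} (hm : 1 ≤ m) (hq : 4 ≤ q) {k : ℕ} (hk : q = 2 ^ k) :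
    q * (q ^ 2 - 1) ≠
      (2 ^ (2 * m + 1)) ^ 2 * ((2 ^ (2 * m + 1)) ^ 2 + 1) * (2 ^ (2 * m + 1) - 1) := by
  intro hcard
  have h2 : 2 ∣ q := hk ▸ dvd_pow_self 2 (by rintro rfl; simp at hk; omega)
  set s := 2 ^ (2 * m + 1) with hs
  have h2s : q ∣ s ^ 2 := by
    refine (Nat.Coprime.dvd_of_dvd_mul_right (n := (s ^ 2 + 1) * (s - 1)) ?_
      ⟨q ^ 2 - 1, by rw [hcard]; ring⟩)
    rw [hk]
    have h2sd : 2 ∣ s := dvd_pow_self 2 (by omega)
    have h2sd' : 2 ∣ s ^ 2 := h2sd.trans (dvd_pow_self s two_ne_zero)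
    refine Nat.Coprime.pow_left _ (Nat.Coprime.mul_right
      (Nat.prime_two.coprime_iff_not_dvd.2 ?_) (Nat.prime_two.coprime_iff_not_dvd.2 ?_))
    · omega
    · have : 0 < s := pow_pos two_pos _
      omega
  have hs2 : s ^ 2 ∣ q := by
    refine Nat.Coprime.dvd_of_dvd_mul_right (n := q ^ 2 - 1) ?_
      ⟨(s ^ 2 + 1) * (s - 1), by rw [hcard]; ring⟩
    rw [hs, ← pow_mul]
    refine Nat.Coprime.pow_left _ (Nat.prime_two.coprime_iff_not_dvd.2 fun h2' => ?_)
    have h4 : 2 ∣ q ^ 2 := h2.trans (dvd_pow_self q two_ne_zero)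
    have : 0 < q ^ 2 := pow_pos (by omega) 2
    omega
  have heq := Nat.dvd_antisymm h2s hs2
  rw [heq] at hcard
  have hs8 : 8 ≤ s := hs ▸ (Nat.pow_le_pow_right two_pos (show 3 ≤ 2 * m + 1 by omega))
  have h5 : (s ^ 2) ^ 2 - 1 = (s ^ 2 + 1) * (s ^ 2 - 1) := by rw [← Nat.sq_sub_sq, one_pow]
  rw [h5, mul_assoc] at hcard
  have h6 := Nat.eq_of_mul_eq_mul_left (by omega)
    (Nat.eq_of_mul_eq_mul_left (by positivity) hcard)
  have : s * 2 ≤ s ^ 2 := by nlinarith
  omega

/-- The group is `PSL(2, q)`. -/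
theorem nonempty_equiv (h : PData H (Fintype.card F) p f d) : Nonempty (H ≃* PSL(2, F)) := by
  classical
  haveI := Fact.mk h.prime
  haveI := Fintype.ofFinite (Sylow p H)
  have hZ := h.isZassenhaus
  obtain ⟨a⟩ : Nonempty (Sylow p H) := inferInstance
  have hn : Fintype.card (Sylow p H) = Fintype.card F + 1 := by
    rw [← Nat.card_eq_fintype_card]; exact (h.sylow_data a).1
  have hcard := h.card
  rcases h.d_eq with ⟨hd, hp2⟩ | ⟨hd, hp2⟩
  · rw [hd, one_mul] at hcard
    have h2 : Even (Fintype.card F) := even_iff_two_dvd.2 (hp2 ▸ h.p_dvd)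
    haveI : IsSimpleGroup H := Cfsg.Agent.S0338.result hZ (by rw [hn]; exact h2.add_one)
    rcases Cfsg.Agent.S0340.result hZ with ⟨K, iK, iKf, ⟨e⟩⟩ | ⟨-, m, hm, hsz⟩
    · exact CfsgLib.PSLTwoSpectrum.eq_of_equiv_even h.four_le h2
        (by rw [hcard, CfsgLib.Linear.card_PSL_two_even h2]) e
    · exact absurd (hcard.symm.trans hsz) (not_suzuki_card hm h.four_le (hp2 ▸ h.q_eq))
  · rw [hd] at hcard
    have hle : (a : Subgroup H) ≤ stabilizer H a := fun u hu => PData.smul_self hu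
    haveI hnor : ((a : Subgroup H).subgroupOf (stabilizer H a)).Normal :=
      (Subgroup.normal_subgroupOf_iff_le_normalizer hle).2 fun g hg =>
        Sylow.smul_eq_iff_mem_normalizer.1 hg
    have hreg : ∀ y z : Sylow p H, y ≠ a → z ≠ a → ∃! u : (a : Subgroup H), (u : H) • y = z :=
      fun y z => h.existsUnique_smul
    have hodd : Fintype.card F % 2 = 1 := by
      rw [← Nat.odd_iff, h.q_eq]
      exact (h.prime.odd_of_ne_two hp2).pow
    rcases Cfsg.Agent.S0731.result hZ a (a : Subgroup H) hle hnor (h.comm a) hreg with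
      ⟨h3, hstab⟩ | ⟨K, iK, iKf, hK2, ⟨e⟩⟩
    · exfalso
      haveI := h3
      have hq := h.four_le
      obtain ⟨t⟩ : Nonempty (Fin 3 ↪ Sylow p H) :=
        Function.Embedding.nonempty_of_card_le (by rw [Fintype.card_fin, hn]; omega)
      have h4 := MulAction.index_stabilizer_of_transitive H t
      rw [hstab t, Subgroup.index_bot, Nat.card_eq_fintype_card (α := Fin 3 ↪ Sylow p H),
        Fintype.card_embedding_eq, Fintype.card_fin, hn] at h4
      have h5 : (Fintype.card F + 1).descFactorial 3 =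
          Fintype.card F * (Fintype.card F ^ 2 - 1) := by
        rw [show Fintype.card F ^ 2 - 1 = (Fintype.card F + 1) * (Fintype.card F - 1) by
          rw [← Nat.sq_sub_sq, one_pow]]
        simp [Nat.descFactorial_succ]
        ring
      rw [h4, h5] at hcard
      have h6 : 4 ^ 2 ≤ Fintype.card F ^ 2 := Nat.pow_le_pow_left hq 2
      have : 0 < Fintype.card F * (Fintype.card F ^ 2 - 1) := Nat.mul_pos (by omega) (by omega)
      omega
    · have hKodd : Odd (Fintype.card K) := Nat.odd_iff.2 (FiniteField.odd_card_of_char_ne_two hK2)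
      have h1 := CfsgLib.Linear.card_PSL_two_odd hKodd
      rw [← Nat.card_congr e.toEquiv, hcard] at h1
      have hKF : Fintype.card K = Fintype.card F := by
        have mono : ∀ a b : ℕ, 2 ≤ a → a < b → a * (a ^ 2 - 1) < b * (b ^ 2 - 1) := fun a b ha hab =>
          Nat.mul_lt_mul_of_lt_of_le hab (Nat.sub_le_sub_right (Nat.pow_le_pow_left hab.le 2) 1)
            (by have : 2 ^ 2 ≤ b ^ 2 := Nat.pow_le_pow_left (by omega) 2; omega)
        rcases Nat.lt_trichotomy (Fintype.card K) (Fintype.card F) with hl | hl | hl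
        · exact absurd h1.symm (mono _ _ Fintype.one_lt_card hl).ne
        · exact hl
        · exact absurd h1 (mono _ _ Fintype.one_lt_card hl).ne
      exact ⟨e.trans (CfsgLib.Linear.pslFieldCongr hKF)⟩

end PData

end CfsgLib.ClassSizePSLTwo
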