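import Cfsg.Agent.ClassSizePSLTwo.Index

/-!
# A group with the class sizes of `PSL(2, q)`

The index of the centre is `q (q² - 1) / d` and the class size of a non-central `p`-element is
`(q² - 1) / d`.
-/

set_option autoImplicit false
set_option linter.style.haveILetI false

namespace CfsgLib.ClassSizePSLTwo

open Subgroup

variable {G : Type*} [Group G]

/-- The facts used afterwards. -/
structure Core (G : Type*) [Group G] (q p f d : ℕ) : Prop where
  prime : p.Prime
  q_eq : q = p ^ f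
  four_le : 4 ≤ q
  d_eq : (d = 1 ∧ p = 2) ∨ (d = 2 ∧ p ≠ 2)
  card : d * (center G).index = q * (q ^ 2 - 1)
  p_idx : ∀ x : G, IsRElem p x → x ∉ center G → d * idx x = q ^ 2 - 1
  no_reg : ∀ (r i j : ℕ) (x : G), r.Prime → q + 1 = r ^ i → IsRElem r x → x ∉ center G →
    idx x ≠ q * r ^ j
  odd_idx : d = 2 → ∃ x : G, x ∉ center G ∧ ¬ 2 ∣ idx x

theorem not_mul_dvd_mul {a b c : ℕ} (hc : 0 < c) (ha : 1 < a) (hab : Nat.Coprime a b) :
    ¬ a * c ∣ b * c := fun h =>
  ha.ne' (Nat.Coprime.eq_one_of_dvd hab (Nat.dvd_of_mul_dvd_mul_right hc h))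

/-- A non-central element of prime power order has image in the centraliser. -/
theorem dvd_cofactor [Finite G] {r a : ℕ} (hr : r.Prime) {x : G} (hx : IsRElem r x)
    (hxZ : x ∉ center G) (hN : (center G).index = a * idx x) : r ∣ a := by
  have h := card_map_cent_mul x
  rw [hN] at h
  rw [← Nat.eq_of_mul_eq_mul_right (Nat.pos_of_ne_zero Subgroup.index_ne_zero_of_finite) h]
  obtain ⟨k, hk⟩ := hx
  obtain ⟨i, -, hi⟩ := (Nat.dvd_prime_pow hr).1 (orderOf_dvd_of_pow_eq_one (show
    (QuotientGroup.mk' (center G) x) ^ r ^ k = 1 by rw [← map_pow, hk, map_one]))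
  have hi0 : i ≠ 0 := by
    rintro rfl
    rw [pow_zero, orderOf_eq_one_iff] at hi
    exact hxZ ((QuotientGroup.eq_one_iff x).1 hi)
  exact (dvd_pow_self r hi0).trans (hi ▸ Subgroup.orderOf_dvd_natCard _
    (mem_map_of_mem _ (self_mem_cent x)))

theorem exists_cofactor_prime [Finite G] {M : ℕ} (h : M ∣ (center G).index)
    (hne : (center G).index ≠ M) : ∃ r c : ℕ, r.Prime ∧ (center G).index = r * c * M := by
  obtain ⟨k, hk⟩ := h
  obtain ⟨r, hr, c, hc⟩ : ∃ r, r.Prime ∧ r ∣ k :=
    Nat.exists_prime_and_dvd fun e => hne (by rw [hk, e, mul_one])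
  exact ⟨r, c, hr, by rw [hk, hc]; ring⟩

/-- Even `q`. -/
theorem core_even [Finite G] {q p f : ℕ} (hp : p.Prime) (hpf : q = p ^ f) (h2 : 2 ∣ q)
    (h4 : 4 ≤ q)
    (hS : Set.range (fun g : G => idx g) = {1, q * (q - 1), q ^ 2 - 1, q * (q + 1)}) :
    Core G q p f 1 := by
  obtain ⟨n, rfl⟩ : ∃ n, q = n + 1 := ⟨q - 1, by omega⟩
  have hn3 : 3 ≤ n := by omega
  have hsq : (n + 1) ^ 2 - 1 = n * (n + 2) := by
    rw [show (n + 1) ^ 2 = n * (n + 2) + 1 by ring]; omega
  rw [hsq, show n + 1 - 1 = n by omega, show n + 1 + 1 = n + 2 by omega] at hS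
  have hp2 : p = 2 := ((Nat.prime_dvd_prime_iff_eq Nat.prime_two hp).1
    (Nat.prime_two.dvd_of_dvd_pow (hpf ▸ h2))).symm
  have hqn : Nat.Coprime (n + 1) n := by simp [Nat.coprime_comm]
  have hqm : Nat.Coprime (n + 1) (n + 2) := by
    rw [show n + 2 = n + 1 + 1 by ring, Nat.coprime_self_add_right]; exact Nat.coprime_one_right _
  have hnm : Nat.Coprime n (n + 2) := by
    rw [Nat.coprime_self_add_right, Nat.coprime_comm, Nat.prime_two.coprime_iff_not_dvd]
    omega
  have hsize : ∀ x : G, x ∉ center G →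
      idx x = n * (n + 1) ∨ idx x = n * (n + 2) ∨ idx x = (n + 1) * (n + 2) := by
    intro x hx
    have h : idx x ∈ Set.range (fun g : G => idx g) := ⟨x, rfl⟩
    rw [hS] at h
    simp only [Set.mem_insert_iff, Set.mem_singleton_iff] at h
    rcases h with h | h | h | h
    · exact absurd h (idx_ne_one hx)
    · exact Or.inl (h.trans (mul_comm _ _))
    · exact Or.inr (Or.inl h)
    · exact Or.inr (Or.inr h)
  have hex : ∀ T, (T = n * (n + 1) ∨ T = n * (n + 2) ∨ T = (n + 1) * (n + 2)) →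
      ∃ x : G, idx x = T := by
    intro T hT
    have h : T ∈ Set.range (fun g : G => idx g) := by
      rw [hS]
      simp only [Set.mem_insert_iff, Set.mem_singleton_iff]
      rcases hT with rfl | rfl | rfl
      · exact Or.inr (Or.inl (mul_comm _ _))
      · exact Or.inr (Or.inr (Or.inl rfl))
      · exact Or.inr (Or.inr (Or.inr rfl))
    exact h
  have d1 := not_mul_dvd_mul (c := n) (by omega) (by omega : 1 < n + 1) hqm
  have d2 := not_mul_dvd_mul (c := n) (by omega) (by omega : 1 < n + 2) hqm.symm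
  have d3 := not_mul_dvd_mul (c := n + 1) (by omega) (by omega : 1 < n) hnm
  have d4 := not_mul_dvd_mul (c := n + 1) (by omega) (by omega : 1 < n + 2) hnm.symm
  have d5 := not_mul_dvd_mul (c := n + 2) (by omega) (by omega : 1 < n) hqn.symm
  have d6 := not_mul_dvd_mul (c := n + 2) (by omega) (by omega : 1 < n + 1) hqn
  rw [mul_comm (n + 1) n, mul_comm (n + 2) n] at d1 d2
  rw [mul_comm (n + 2) (n + 1)] at d3 d4
  have iso : ∀ T, (T = n * (n + 1) ∨ T = n * (n + 2) ∨ T = (n + 1) * (n + 2)) → Isolated G T := by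
    intro T hT
    refine ⟨?_, fun x hx hdiv => ?_⟩
    · have : 1 < n * (n + 1) ∧ 1 < n * (n + 2) ∧ 1 < (n + 1) * (n + 2) :=
        ⟨by nlinarith, by nlinarith, by nlinarith⟩
      rcases hT with rfl | rfl | rfl <;> omega
    · rcases hT with rfl | rfl | rfl <;> rcases hsize x hx with h | h | h <;>
        rw [h] at hdiv ⊢ <;> rcases hdiv with hd | hd <;>
        first
          | exact absurd hd d1
          | exact absurd hd d2
          | exact absurd hd d3
          | exact absurd hd d4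
          | exact absurd hd d5
          | exact absurd hd d6
  have hdivN : ∀ T, (T = n * (n + 1) ∨ T = n * (n + 2) ∨ T = (n + 1) * (n + 2)) →
      T ∣ (center G).index := fun T hT => by
    obtain ⟨x, rfl⟩ := hex T hT
    exact idx_dvd_index x
  have hM : n * (n + 1) * (n + 2) ∣ (center G).index := by
    rw [show n * (n + 1) * (n + 2) = (n + 1) * (n * (n + 2)) by ring]
    exact (hqn.mul_right hqm).mul_dvd_of_dvd_of_dvd
      ((dvd_mul_right _ _).trans (hdivN _ (Or.inr (Or.inr rfl)))) (hdivN _ (Or.inr (Or.inl rfl)))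
  have hN : (center G).index = n * (n + 1) * (n + 2) := by
    by_contra hne
    obtain ⟨r, c, hr, hc⟩ := exists_cofactor_prime hM hne
    obtain ⟨-, r1, r2⟩ := dvd_sizes (a₁ := n + 2) (a₂ := n + 1) (c := c) hr
      (iso _ (Or.inl rfl)) (iso _ (Or.inr (Or.inl rfl))) (hex _ (Or.inl rfl))
      (hex _ (Or.inr (Or.inl rfl))) (fun e => d1 (dvd_of_eq e)) (hc.trans (by ring))
      (hc.trans (by ring)) (by omega) (by omega) hqm.symm
    obtain ⟨-, -, r3⟩ := dvd_sizes (a₁ := n + 2) (a₂ := n) (c := c) hr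
      (iso _ (Or.inl rfl)) (iso _ (Or.inr (Or.inr rfl))) (hex _ (Or.inl rfl))
      (hex _ (Or.inr (Or.inr rfl))) (fun e => d3 (dvd_of_eq e))
      (hc.trans (by ring)) (hc.trans (by ring)) (by omega) (by omega) hnm.symm
    rcases hr.dvd_mul.1 r1 with e1 | e1 <;> rcases hr.dvd_mul.1 r2 with e2 | e2 <;>
      rcases hr.dvd_mul.1 r3 with e3 | e3 <;>
      first
        | exact hr.ne_one (Nat.eq_one_of_dvd_coprimes hqn e3 e1)
        | exact hr.ne_one (Nat.eq_one_of_dvd_coprimes hqn e1 e2)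
        | exact hr.ne_one (Nat.eq_one_of_dvd_coprimes hqm e1 e3)
        | exact hr.ne_one (Nat.eq_one_of_dvd_coprimes hqm e1 e2)
        | exact hr.ne_one (Nat.eq_one_of_dvd_coprimes hqm e3 e2)
        | exact hr.ne_one (Nat.eq_one_of_dvd_coprimes hnm e1 e3)
  refine ⟨hp, hpf, h4, Or.inl ⟨rfl, hp2⟩, ?_, ?_, ?_, fun h => absurd h (by norm_num)⟩
  · rw [one_mul, hN, hsq]; ring
  · intro x hxp hxZ
    rw [one_mul, hsq]
    subst hp2
    rcases hsize x hxZ with h | h | h
    · have := dvd_cofactor hp (a := n + 2) hxp hxZ (by rw [hN, h]; ring)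
      omega
    · exact h
    · have := dvd_cofactor hp (a := n) hxp hxZ (by rw [hN, h]; ring)
      omega
  · intro r i j x hr hi hxr hxZ e
    rcases hsize x hxZ with h | h | h <;> rw [h] at e
    · rw [mul_comm n (n + 1)] at e
      have e' : n = r ^ j := Nat.eq_of_mul_eq_mul_left (by omega) e
      have hj : j ≠ 0 := by rintro rfl; simp at e'; omega
      have hi0 : i ≠ 0 := by rintro rfl; simp at hi
      exact hr.ne_one (Nat.eq_one_of_dvd_coprimes hnm (e' ▸ dvd_pow_self r hj)
        (show r ∣ n + 2 by rw [show n + 2 = n + 1 + 1 by ring, hi]; exact dvd_pow_self r hi0))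
    · have h' : n + 1 ∣ n * (n + 2) := e ▸ dvd_mul_right _ _
      have := (hqn.mul_right hqm).eq_one_of_dvd h'
      omega
    · have hrn := dvd_cofactor hr (a := n) hxr hxZ (by rw [hN, h]; ring)
      have hi0 : i ≠ 0 := by rintro rfl; simp at hi
      exact hr.ne_one (Nat.eq_one_of_dvd_coprimes hnm hrn
        (show r ∣ n + 2 by rw [show n + 2 = n + 1 + 1 by ring, hi]; exact dvd_pow_self r hi0))

/-- Odd `q`. -/
theorem core_odd [Finite G] {q p f n m : ℕ} (hp : p.Prime) (hpf : q = p ^ f) (hq : ¬ 2 ∣ q)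
    (h7 : 7 ≤ q) (hsq : q ^ 2 - 1 = 4 * (n * m)) (hn : 2 ∣ n) (hm : ¬ 2 ∣ m)
    (hcases : q + 1 = 2 * n ∧ q = 2 * m + 1 ∨ q + 1 = 2 * m ∧ q = 2 * n + 1)
    (hS : Set.range (fun g : G => idx g) =
      {1, 2 * (n * m), q * m, 2 * (q * n), 2 * (q * m)}) :
    Core G q p f 2 := by
  have hn2 : 2 ≤ n := by omega
  have hm3 : 3 ≤ m := by omega
  have hp2 : p ≠ 2 := by
    rintro rfl
    exact hq (hpf ▸ dvd_pow_self 2 (by rintro rfl; simp at hpf; omega))
  have hq2 : Nat.Coprime q 2 := (Nat.prime_two.coprime_iff_not_dvd.2 hq).symm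
  have hm2 : Nat.Coprime m 2 := (Nat.prime_two.coprime_iff_not_dvd.2 hm).symm
  have hsq' : q ^ 2 = 4 * (n * m) + 1 := by
    have : 1 ≤ q ^ 2 := Nat.one_le_pow _ _ (by omega)
    omega
  have hqq : Nat.Coprime q (n * m) := by
    refine Nat.coprime_of_dvd' fun r hr hrq hrd => ?_
    have h1 : r ∣ q ^ 2 := hrq.trans (dvd_pow_self q two_ne_zero)
    exact (Nat.dvd_add_right (hrd.mul_left 4)).1 (hsq' ▸ h1)
  have hqn : Nat.Coprime q n := hqq.coprime_dvd_right (dvd_mul_right _ _)
  have hqm : Nat.Coprime q m := hqq.coprime_dvd_right (dvd_mul_left _ _)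
  have hnm : Nat.Coprime n m := by
    refine Nat.coprime_of_dvd' fun r hr hrn hrm => ?_
    rcases hcases with ⟨a, b⟩ | ⟨a, b⟩
    · have h1 := Nat.dvd_sub hrn hrm
      rwa [show n - m = 1 by omega] at h1
    · have h1 := Nat.dvd_sub hrm hrn
      rwa [show m - n = 1 by omega] at h1
  have hsize : ∀ x : G, x ∉ center G → idx x = 2 * (n * m) ∨ idx x = q * m ∨
      idx x = 2 * (q * n) ∨ idx x = 2 * (q * m) := by
    intro x hx
    have h : idx x ∈ Set.range (fun g : G => idx g) := ⟨x, rfl⟩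
    rw [hS] at h
    simp only [Set.mem_insert_iff, Set.mem_singleton_iff] at h
    exact h.resolve_left (idx_ne_one hx)
  have hex : ∀ T, T = 2 * (n * m) ∨ T = q * m ∨ T = 2 * (q * n) ∨ T = 2 * (q * m) →
      ∃ x : G, idx x = T := by
    intro T hT
    have h : T ∈ Set.range (fun g : G => idx g) := by
      rw [hS]
      simp only [Set.mem_insert_iff, Set.mem_singleton_iff]
      exact Or.inr hT
    exact h
  have hqmodd : ¬ 2 ∣ q * m := Nat.prime_two.not_dvd_mul hq hm
  -- `2 n m`
  have a1 : ¬ q * m ∣ 2 * n * m := not_mul_dvd_mul (by omega) (by omega) (hq2.mul_right hqn)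
  have a2 : ¬ 2 * (n * m) ∣ 2 * (q * n) := fun h => by
    rw [show 2 * (n * m) = m * (2 * n) by ring, show 2 * (q * n) = q * (2 * n) by ring] at h
    exact not_mul_dvd_mul (by omega) (by omega) hqm.symm h
  have a3 : ¬ 2 * (q * n) ∣ 2 * (n * m) := fun h => by
    rw [show 2 * (n * m) = m * (2 * n) by ring, show 2 * (q * n) = q * (2 * n) by ring] at h
    exact not_mul_dvd_mul (by omega) (by omega) hqm h
  have a4 : ¬ 2 * (n * m) ∣ 2 * (q * m) := fun h => by
    rw [show 2 * (n * m) = n * (2 * m) by ring, show 2 * (q * m) = q * (2 * m) by ring] at h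
    exact not_mul_dvd_mul (by omega) (by omega) hqn.symm h
  have a5 : ¬ 2 * (q * m) ∣ 2 * (n * m) := fun h => by
    rw [show 2 * (n * m) = n * (2 * m) by ring, show 2 * (q * m) = q * (2 * m) by ring] at h
    exact not_mul_dvd_mul (by omega) (by omega) hqn h
  -- `2 q n`
  have b1 : ¬ q * m ∣ 2 * (q * n) := fun h => by
    rw [show q * m = m * q by ring, show 2 * (q * n) = 2 * n * q by ring] at h
    exact not_mul_dvd_mul (by omega) (by omega) (hm2.mul_right hnm.symm) h
  have b2 : ¬ 2 * (q * n) ∣ 2 * (q * m) := fun h => by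
    rw [show 2 * (q * n) = n * (2 * q) by ring, show 2 * (q * m) = m * (2 * q) by ring] at h
    exact not_mul_dvd_mul (by omega) (by omega) hnm h
  have b3 : ¬ 2 * (q * m) ∣ 2 * (q * n) := fun h => by
    rw [show 2 * (q * n) = n * (2 * q) by ring, show 2 * (q * m) = m * (2 * q) by ring] at h
    exact not_mul_dvd_mul (by omega) (by omega) hnm.symm h
  have isoH : Isolated G (2 * (n * m)) := by
    refine ⟨by omega, fun x hx hdiv => ?_⟩
    rcases hsize x hx with h | h | h | h <;> rw [h] at hdiv ⊢ <;> rcases hdiv with hd | hd <;>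
      first
        | rfl
        | exact absurd hd (mul_assoc 2 n m ▸ a1)
        | exact absurd ((dvd_mul_right 2 _).trans hd) hqmodd
        | exact absurd hd a2
        | exact absurd hd a3
        | exact absurd hd a4
        | exact absurd hd a5
  have isoO : Isolated G (2 * (q * n)) := by
    refine ⟨by omega, fun x hx hdiv => ?_⟩
    rcases hsize x hx with h | h | h | h <;> rw [h] at hdiv ⊢ <;> rcases hdiv with hd | hd <;>
      first
        | rfl
        | exact absurd hd b1
        | exact absurd ((dvd_mul_right 2 _).trans hd) hqmodd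
        | exact absurd hd a2
        | exact absurd hd a3
        | exact absurd hd b2
        | exact absurd hd b3
  have hdivN : ∀ T, T = 2 * (n * m) ∨ T = q * m ∨ T = 2 * (q * n) ∨ T = 2 * (q * m) →
      T ∣ (center G).index := fun T hT => by
    obtain ⟨x, rfl⟩ := hex T hT
    exact idx_dvd_index x
  have hM : q * (2 * (n * m)) ∣ (center G).index :=
    (hq2.mul_right hqq).mul_dvd_of_dvd_of_dvd
      ((dvd_mul_right _ _).trans (hdivN _ (Or.inr (Or.inl rfl)))) (hdivN _ (Or.inl rfl))
  have hN : (center G).index = q * (2 * (n * m)) := by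
    by_contra hne
    obtain ⟨r, c, hr, hc⟩ := exists_cofactor_prime hM hne
    haveI := Fact.mk hr
    obtain ⟨key, r1, r2⟩ := dvd_sizes (a₁ := q) (a₂ := m) (c := c) hr isoH isoO
      (hex _ (Or.inl rfl)) (hex _ (Or.inr (Or.inr (Or.inl rfl)))) (fun e => a2 (dvd_of_eq e))
      (hc.trans (by ring)) (hc.trans (by ring)) (by omega) (by omega) hqm
    have hr2n : r ∣ 2 * n := by
      rw [show 2 * (n * m) = 2 * n * m by ring] at r1
      rw [show 2 * (q * n) = 2 * n * q by ring] at r2
      rcases hr.dvd_mul.1 r1 with e | e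
      · exact e
      · rcases hr.dvd_mul.1 r2 with e' | e'
        · exact e'
        · exact absurd (Nat.eq_one_of_dvd_coprimes hqm e' e) hr.ne_one
    have hrD : ¬ r ∣ q * m := fun h => hr.ne_one (Nat.eq_one_of_dvd_coprimes
      ((hq2.mul_right hqn).mul_left (hm2.mul_right hnm.symm)) h hr2n)
    obtain ⟨x, hx⟩ := hex _ (Or.inr (Or.inl rfl))
    obtain ⟨a, b, ha, hb, hab⟩ := exists_parts hr x
    by_cases hbZ : x ^ b ∈ center G
    · have h1 : centralizer ({x ^ b * x ^ a} : Set G) = centralizer {x ^ a} :=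
        mem_center_mul_right hbZ
      rw [← (Commute.pow_pow_self x a b).eq, ← hab] at h1
      have h2 : idx (x ^ a) = q * m := by rw [idx, ← h1]; exact hx
      exact hrD (h2 ▸ key _ ha (notMem_center_of_idx h2 (by nlinarith)))
    · have hbi : idx (x ^ b) = q * m := by
        have h1 : idx (x ^ b) ∣ q * m := hx ▸ idx_dvd_of_le (cent_le_pow x b)
        rcases hsize _ hbZ with h | h | h | h <;> rw [h] at h1 ⊢
        all_goals exact absurd ((dvd_mul_right 2 _).trans h1) hqmodd
      obtain ⟨R⟩ : Nonempty (Sylow r (centralizer ({x ^ b} : Set G))) := inferInstance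
      let S : Sylow r G := (R.isPGroup'.map (centralizer ({x ^ b} : Set G)).subtype).toSylow (by
        rw [index_map_subtype]
        exact Nat.Prime.not_dvd_mul hr R.not_dvd_index (by rw [← idx, hbi]; exact hrD))
      obtain ⟨w, hwr, hwi⟩ := isoH.exists_relem hr (hex _ (Or.inl rfl))
        (hc.trans (by ring : r * c * (q * (2 * (n * m))) = r * c * q * (2 * (n * m))))
        ((dvd_mul_right r c).mul_right q)
      obtain ⟨k, hk⟩ := hwr
      have hwp : IsPGroup r (zpowers w) := by
        rintro ⟨_, i, rfl⟩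
        exact ⟨k, Subtype.ext (by
          rw [SubgroupClass.coe_pow, coe_one, ← zpow_natCast, zpow_comm, zpow_natCast, hk,
            one_zpow])⟩
      obtain ⟨S', hS'⟩ := hwp.exists_le_sylow
      obtain ⟨g, hg⟩ := MulAction.exists_smul_eq G S' S
      have hgw : g * w * g⁻¹ ∈ (S : Subgroup G) := by
        rw [← hg, Sylow.coe_subgroup_smul, mem_pointwise_smul_iff_inv_smul_mem, MulAut.smul_def,
          ← map_inv MulAut.conj, MulAut.conj_apply]
        simpa [mul_assoc] using hS' (mem_zpowers w)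
      have hcm : Commute (g * w * g⁻¹) (x ^ b) := mem_cent.1 (map_subtype_le _ hgw)
      have hvi : idx (g * w * g⁻¹) = 2 * (n * m) := by rw [idx_conj, hwi]
      have hcb := isoH.cent_eq hvi hbZ
        (cent_mul_of_parts hr hcm (IsRElem.conj ⟨k, hk⟩ g) hb)
      have h5 : idx (x ^ b) = 2 * (n * m) := by rw [idx, hcb]; exact hvi
      rw [hbi] at h5
      exact hqmodd (h5 ▸ dvd_mul_right 2 _)
  have hp4 : 2 * (2 * (n * m)) = q ^ 2 - 1 := by rw [hsq]; ring
  have hpq : p ∣ q := hpf ▸ dvd_pow_self p (by rintro rfl; simp at hpf; omega)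
  refine ⟨hp, hpf, by omega, Or.inr ⟨rfl, hp2⟩, ?_, ?_, ?_, fun _ => ?_⟩
  · rw [hN, hsq]; ring
  · intro x hxp hxZ
    have hpnm : ¬ p ∣ 2 * (n * m) := fun h =>
      hp.ne_one (Nat.eq_one_of_dvd_coprimes (hq2.mul_right hqq) hpq h)
    rcases hsize x hxZ with h | h | h | h
    · rw [h, hp4]
    · exact absurd ((dvd_cofactor hp (a := 2 * n) hxp hxZ (by rw [hN, h]; ring)).trans
        ⟨m, by ring⟩) hpnm
    · exact absurd ((dvd_cofactor hp (a := m) hxp hxZ (by rw [hN, h]; ring)).trans
        ⟨2 * n, by ring⟩) hpnm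
    · exact absurd ((dvd_cofactor hp (a := n) hxp hxZ (by rw [hN, h]; ring)).trans
        ⟨2 * m, by ring⟩) hpnm
  · intro r i j x hr hi hxr hxZ e
    have hr2 : r = 2 := ((Nat.prime_dvd_prime_iff_eq Nat.prime_two hr).1
      (Nat.prime_two.dvd_of_dvd_pow (show 2 ∣ r ^ i by omega))).symm
    subst hr2
    have hmcop : ∀ k, m ∣ 2 ^ k → False := fun k hk => by
      have := (hm2.pow_right k).eq_one_of_dvd hk
      omega
    rcases hsize x hxZ with h | h | h | h <;> rw [h] at e
    · have h1 : q ∣ 2 * (n * m) := e ▸ dvd_mul_right _ _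
      have := (hq2.mul_right hqq).eq_one_of_dvd h1
      omega
    · exact hmcop j (Nat.eq_of_mul_eq_mul_left (by omega) e ▸ dvd_rfl)
    · exact hm (dvd_cofactor hr (a := m) hxr hxZ (by rw [hN, h]; ring))
    · rw [show 2 * (q * m) = q * (2 * m) by ring] at e
      exact hmcop j (Nat.eq_of_mul_eq_mul_left (by omega) e ▸ dvd_mul_left m 2)
  · obtain ⟨x, hx⟩ := hex _ (Or.inr (Or.inl rfl))
    exact ⟨x, notMem_center_of_idx hx (by nlinarith), hx ▸ hqmodd⟩

end CfsgLib.ClassSizePSLTwo
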