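import Cfsg.Agent.ClassSizePSLTwo.Central
import Cfsg.Agent.Linear.SL2Sylow

/-!
# Sylow subgroups of `PSL(2, q)`

For odd primes other than the characteristic they are cyclic; for `q` odd a Sylow `2`-subgroup is
dihedral and is centralised by no non-trivial element of odd order.
-/

set_option autoImplicit false
set_option linter.style.haveILetI false

namespace CfsgLib.ClassSizePSLTwo

open Subgroup
open scoped MatrixGroups Pointwise

variable {F : Type*} [Field F] [Fintype F]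

theorem isCyclic_sylow_PSL {p r : ℕ} [Fact p.Prime] [CharP F p] [Fact r.Prime] (hr : r ≠ 2)
    (hrp : r ≠ p) (P : Sylow r PSL(2, F)) : IsCyclic (P : Subgroup PSL(2, F)) := by
  obtain ⟨R, rfl⟩ := Sylow.mapSurjective_surjective
    (QuotientGroup.mk'_surjective (center SL(2, F))) r P
  haveI := CfsgLib.Linear.isCyclic_of_isPGroup p hr hrp (R : Subgroup SL(2, F)) R.isPGroup'
  rw [Sylow.coe_mapSurjective]
  exact isCyclic_of_surjective _ ((QuotientGroup.mk' (center SL(2, F))).subgroupMap_surjective _)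

/-- Generators of a Sylow `2`-subgroup. -/
theorem exists_dihedral_gens (hF : Odd (Fintype.card F)) (P : Sylow 2 PSL(2, F)) :
    ∃ a b : PSL(2, F), a ∈ (P : Subgroup PSL(2, F)) ∧ b ∈ (P : Subgroup PSL(2, F)) ∧
      b * a * b⁻¹ = a⁻¹ ∧
      ∀ x ∈ (P : Subgroup PSL(2, F)), ∃ i : ℤ, x = a ^ i ∨ x = b * a ^ i := by
  obtain ⟨R, rfl⟩ := Sylow.mapSurjective_surjective
    (QuotientGroup.mk'_surjective (center SL(2, F))) 2 P
  obtain ⟨k, -, ⟨e⟩⟩ := CfsgLib.Linear.sylow_two_quaternion hF R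
  set π := QuotientGroup.mk' (center SL(2, F))
  let g : QuaternionGroup (2 ^ k) →* PSL(2, F) :=
    π.comp ((R : Subgroup SL(2, F)).subtype.comp e.symm.toMonoidHom)
  have hmem : ∀ u, g u ∈ ((R.mapSurjective (QuotientGroup.mk'_surjective (center SL(2, F))) :
      Sylow 2 PSL(2, F)) : Subgroup PSL(2, F)) := fun u => by
    rw [Sylow.coe_mapSurjective]
    exact ⟨_, (e.symm u).2, rfl⟩
  refine ⟨g (.a 1), g (.xa 0), hmem _, hmem _, ?_, ?_⟩
  · rw [← map_inv, ← map_inv, ← map_mul, ← map_mul]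
    congr 1
    rw [mul_inv_eq_iff_eq_mul]
    rw [show (QuaternionGroup.a 1 : QuaternionGroup (2 ^ k))⁻¹ = .a (-1) from rfl]
    simp
  · intro x hx
    rw [Sylow.coe_mapSurjective] at hx
    obtain ⟨y, hy, rfl⟩ := hx
    have hy' : π y = g (e ⟨y, hy⟩) := by simp [g]
    rw [hy']
    have ha : ∀ i : ZMod (2 * 2 ^ k), g (.a i) = g (.a 1) ^ (i.val : ℤ) := fun i => by
      rw [zpow_natCast, ← map_pow, QuaternionGroup.a_one_pow, ZMod.natCast_zmod_val]
    generalize e ⟨y, hy⟩ = w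
    cases w with
    | a i => exact ⟨i.val, Or.inl (ha i)⟩
    | xa i => exact ⟨i.val, Or.inr (by rw [← ha, ← map_mul]; simp)⟩

omit [Fintype F] in
theorem mem_center_of_scalar {g : SL(2, F)}
    (h : ¬ (g.1 0 1 ≠ 0 ∨ g.1 1 0 ≠ 0 ∨ g.1 0 0 ≠ g.1 1 1)) : g ∈ center SL(2, F) := by
  push Not at h
  obtain ⟨h1, h2, h3⟩ := h
  refine mem_center_iff.2 fun x => Subtype.ext ?_
  rw [Matrix.SpecialLinearGroup.coe_mul, Matrix.SpecialLinearGroup.coe_mul]
  ext i j
  fin_cases i <;> fin_cases j <;>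
    simp [Matrix.mul_apply, Fin.sum_univ_two, h1, h2, h3, mul_comm]

/-- An element of odd order centralising a Sylow `2`-subgroup is trivial. -/
theorem eq_one_of_centralizes (hF : Odd (Fintype.card F)) (P : Sylow 2 PSL(2, F)) {u : PSL(2, F)}
    (hu : IsRPrimeElem 2 u) (hc : ∀ x ∈ (P : Subgroup PSL(2, F)), Commute u x) : u = 1 := by
  classical
  obtain ⟨R, rfl⟩ := Sylow.mapSurjective_surjective
    (QuotientGroup.mk'_surjective (center SL(2, F))) 2 P
  obtain ⟨k, hk, ⟨e⟩⟩ := CfsgLib.Linear.sylow_two_quaternion hF R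
  set π := QuotientGroup.mk' (center SL(2, F))
  obtain ⟨g, rfl⟩ := QuotientGroup.mk'_surjective (center SL(2, F)) u
  obtain ⟨a, b, ha, hb, hab⟩ := exists_parts Nat.prime_two g
  have hga : π (g ^ a) = 1 := by
    refine IsRElem.eq_one_of_rprime Nat.prime_two (ha.map π) ?_
    obtain ⟨c, hc1, hc2⟩ := hu
    exact ⟨c, hc1, by rw [map_pow, ← pow_mul, mul_comm, pow_mul, hc2, one_pow]⟩
  have hgb : π g = π (g ^ b) := by
    conv_lhs => rw [hab]
    rw [map_mul, hga, one_mul]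
  rw [hgb] at hc ⊢
  obtain ⟨c, hc1, hc2⟩ := hb
  have hcomm : ∀ y ∈ (R : Subgroup SL(2, F)), Commute y (g ^ b) := by
    intro y hy
    obtain ⟨i, hi⟩ := isRElem_of_mem R.isPGroup' hy
    refine commute_of_mk hi hc2 ((Nat.prime_two.coprime_iff_not_dvd.2 hc1).pow_left i) ?_
    exact (hc (π y) (by rw [Sylow.coe_mapSurjective]; exact mem_map_of_mem _ hy)).symm
  refine (QuotientGroup.eq_one_iff _).2 (mem_center_of_scalar fun hns => ?_)
  have habel : ∀ y ∈ (R : Subgroup SL(2, F)), ∀ z ∈ (R : Subgroup SL(2, F)), Commute y z := by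
    intro y hy z hz
    obtain ⟨s, t, hst⟩ := CfsgLib.Linear.exists_coord hns
      (show (g ^ b).1 * y.1 = y.1 * (g ^ b).1 from congrArg Subtype.val (hcomm y hy).eq.symm)
    obtain ⟨s', t', hst'⟩ := CfsgLib.Linear.exists_coord hns
      (show (g ^ b).1 * z.1 = z.1 * (g ^ b).1 from congrArg Subtype.val (hcomm z hz).eq.symm)
    refine Subtype.ext ?_
    show y.1 * z.1 = z.1 * y.1
    rw [hst, hst']
    simp only [add_mul, mul_add, smul_mul_assoc, mul_smul_comm, one_mul, mul_one]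
    module
  have h1 := habel _ (e.symm (.a 1)).2 _ (e.symm (.xa 0)).2
  have h2 : (QuaternionGroup.a 1 : QuaternionGroup (2 ^ k)) * .xa 0 = .xa 0 * .a 1 :=
    e.symm.injective (Subtype.ext (by rw [map_mul, map_mul]; exact h1))
  simp only [QuaternionGroup.a_mul_xa, QuaternionGroup.xa_mul_a, QuaternionGroup.xa.injEq] at h2
  have h3 : ((2 : ℕ) : ZMod (2 * 2 ^ k)) = 0 := by
    push_cast
    linear_combination -h2
  have h4 := Nat.le_of_dvd two_pos ((ZMod.natCast_eq_zero_iff _ _).1 h3)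
  have : 2 ≤ 2 ^ k := Nat.le_self_pow (by omega) 2
  omega

end CfsgLib.ClassSizePSLTwo
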