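import Cfsg.Agent.ClassSizePSLTwo.Recognition
import Cfsg.Agent.ClassSizePSLTwo.Sylow
import Cfsg.Agent.WordLaws.Embed

/-!
# The derived subgroup splits off

Its intersection with the centre is trivial, by transfer into Sylow subgroups.
-/

set_option autoImplicit false
set_option linter.style.haveILetI false

namespace CfsgLib.ClassSizePSLTwo

open Subgroup
open scoped MatrixGroups Pointwise commutatorElement

/-- A central element of a perfect group lies in the derived subgroup of a Sylow subgroup. -/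
theorem mem_commutator_sylow {L : Type*} [Group L] [Finite L] (hL : commutator L = ⊤) {r : ℕ}
    [Fact r.Prime] (P : Sylow r L) {z : L} (hzr : IsRElem r z) (hz : z ∈ center L) :
    ∃ hP : z ∈ (P : Subgroup L), (⟨z, hP⟩ : (P : Subgroup L)) ∈ commutator (P : Subgroup L) := by
  obtain ⟨Q, hQ⟩ := hzr.isPGroup_zpowers.exists_le_sylow
  obtain ⟨g, hg⟩ := MulAction.exists_smul_eq L Q P
  have hzP : z ∈ (P : Subgroup L) := by
    rw [← hg, Sylow.coe_subgroup_smul, mem_pointwise_smul_iff_inv_smul_mem, MulAut.smul_def,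
      ← map_inv MulAut.conj, MulAut.conj_apply, mem_center_iff.1 hz g⁻¹, mul_inv_cancel_right]
    exact hQ (mem_zpowers z)
  refine ⟨hzP, ?_⟩
  have key : ∀ (k : ℕ) (g₀ : L), g₀⁻¹ * z ^ k * g₀ ∈ (P : Subgroup L) →
      g₀⁻¹ * z ^ k * g₀ = z ^ k := fun k g₀ _ => by
    rw [mul_assoc, ← mem_center_iff.1 (pow_mem hz k) g₀, inv_mul_cancel_left]
  have htr := MonoidHom.transfer_eq_pow (Abelianization.of (G := (P : Subgroup L))) z key
  have h1 : MonoidHom.transfer (Abelianization.of (G := (P : Subgroup L))) z = 1 :=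
    MonoidHom.mem_ker.1 (Abelianization.commutator_subset_ker _ (hL ▸ mem_top z))
  rw [h1, eq_comm] at htr
  set zP : (P : Subgroup L) := ⟨z, hzP⟩
  have hm : zP ^ (P : Subgroup L).index ∈ commutator (P : Subgroup L) := by
    rw [← Abelianization.ker_of, MonoidHom.mem_ker]
    refine Eq.trans ?_ htr
    exact congrArg _ (Subtype.ext rfl)
  obtain ⟨k, hk⟩ := isRElem_of_mem P.isPGroup' hzP
  obtain ⟨m, hm'⟩ := exists_pow_eq_self_of_coprime
    (x := zP) (n := (P : Subgroup L).index) (by
      refine Nat.Coprime.coprime_dvd_right (orderOf_dvd_of_pow_eq_one (n := r ^ k) ?_)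
        (((Fact.out : r.Prime).coprime_iff_not_dvd.2 P.not_dvd_index).symm.pow_right k)
      exact Subtype.ext hk)
  exact hm' ▸ pow_mem hm m

theorem comm_center_mul {P : Type*} [Group P] {u v z w : P} (hz : z ∈ center P)
    (hw : w ∈ center P) : ⁅u * z, v * w⁆ = ⁅u, v⁆ := by
  simp only [commutatorElement_def, _root_.mul_inv_rev]
  have h1 : ∀ g, g * z = z * g := fun g => mem_center_iff.1 hz g
  have h2 : ∀ g, g * w = w * g := fun g => mem_center_iff.1 hw g
  calc u * z * (v * w) * (z⁻¹ * u⁻¹) * (w⁻¹ * v⁻¹)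
      = u * (z * (v * w)) * z⁻¹ * u⁻¹ * w⁻¹ * v⁻¹ := by group
    _ = u * ((v * w) * z) * z⁻¹ * u⁻¹ * w⁻¹ * v⁻¹ := by rw [h1]
    _ = u * v * (w * u⁻¹) * w⁻¹ * v⁻¹ := by group
    _ = u * v * (u⁻¹ * w) * w⁻¹ * v⁻¹ := by rw [h2]
    _ = _ := by group

/-- The dihedral argument. -/
theorem eq_one_of_dihedral {P Q : Type*} [Group P] [Group Q] (f : P →* Q)
    (hker : f.ker ≤ center P) {a b y : P}
    (hba : f b * f a * (f b)⁻¹ = (f a)⁻¹)
    (hgen : ∀ x : P, ∃ i : ℤ, f x = f a ^ i ∨ f x = f b * f a ^ i)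
    (hy : y ∈ center P) (hy1 : f y ≠ 1) {z : P} (hzk : f z = 1) (hzc : z ∈ commutator P) :
    z = 1 := by
  have hz1 : a * (b * a * b⁻¹) ∈ center P :=
    hker (by rw [MonoidHom.mem_ker, map_mul, map_mul, map_mul, map_inv, hba, mul_inv_cancel])
  generalize hw : a * (b * a * b⁻¹) = z1 at hz1
  have hconj : ∀ k : ℤ, b * a ^ k * b⁻¹ = a ^ (-k) * z1 ^ k := by
    intro k
    have hc : Commute a⁻¹ z1 := mem_center_iff.1 hz1 a⁻¹
    rw [← conj_zpow, show b * a * b⁻¹ = a⁻¹ * z1 by rw [← hw]; group, hc.mul_zpow, inv_zpow']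
  set c := ⁅b, a⁆ with hc
  have hcc : ∀ j : ℤ, c ^ j = ⁅b, a ^ j⁆ := by
    intro j
    have hc' : Commute (b * a * b⁻¹) a⁻¹ := by
      rw [show b * a * b⁻¹ = a⁻¹ * z1 by rw [← hw]; group]
      exact ((Commute.refl a⁻¹).mul_left (mem_center_iff.1 hz1 a⁻¹).symm)
    rw [hc, commutatorElement_def, hc'.mul_zpow, conj_zpow, inv_zpow, commutatorElement_def]
  have hcb : b * c * b⁻¹ = c⁻¹ := by
    have e : c = a ^ (-2 : ℤ) * z1 := by
      rw [hc, commutatorElement_def, show b * a * b⁻¹ = a⁻¹ * z1 by rw [← hw]; group, mul_assoc,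
        ← mem_center_iff.1 hz1 a⁻¹, ← mul_assoc]
      group
    rw [e, show b * (a ^ (-2 : ℤ) * z1) * b⁻¹ = b * a ^ (-2 : ℤ) * (z1 * b⁻¹) by group,
      ← mem_center_iff.1 hz1 b⁻¹, ← mul_assoc, hconj]
    have h2 : a ^ (2 : ℤ) * z1⁻¹ = z1⁻¹ * a ^ (2 : ℤ) := mem_center_iff.1 (inv_mem hz1) _
    rw [_root_.mul_inv_rev, ← zpow_neg, neg_neg, ← h2]
    group
  have haa : ∀ i j : ℤ, ⁅a ^ i, a ^ j⁆ = 1 := fun i j =>
    commutatorElement_eq_one_iff_commute.2 ((Commute.refl a).zpow_zpow i j)
  have hab : ∀ i j : ℤ, ⁅a ^ i, b * a ^ j⁆ = (c ^ i)⁻¹ := by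
    intro i j
    rw [hcc, commutatorElement_inv, commutatorElement_def, commutatorElement_def]
    group
  have hbb : ∀ i j : ℤ, ⁅b * a ^ i, b * a ^ j⁆ ∈ zpowers c := by
    intro i j
    have e : ⁅b * a ^ i, b * a ^ j⁆ = b * (a ^ i * ⁅b, a ^ (j - i)⁆ * (a ^ i)⁻¹) * b⁻¹ *
        (b * (a ^ i * (a ^ (j - i) * (a ^ j)⁻¹)) * b⁻¹) := by
      simp only [commutatorElement_def, _root_.mul_inv_rev]
      group
    have e2 : a ^ i * (a ^ (j - i) * (a ^ j)⁻¹) = 1 := by group
    have hac : Commute (a ^ i) c := by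
      rw [hc, commutatorElement_def, show b * a * b⁻¹ = a⁻¹ * z1 by rw [← hw]; group]
      exact ((((Commute.refl a).inv_right.mul_right (mem_center_iff.1 hz1 a)).mul_right
        (Commute.refl a).inv_right).zpow_left i)
    rw [e, e2, mul_one, mul_inv_cancel, mul_one, ← hcc, (hac.zpow_right (j - i)).eq,
      mul_inv_cancel_right, ← conj_zpow, hcb]
    exact zpow_mem (inv_mem (mem_zpowers c)) _
  have hsub : commutator P ≤ zpowers c := by
    rw [_root_.commutator_def, commutator_le]
    intro u _ v _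
    have split : ∀ x : P, ∃ (i : ℤ) (w : P), w ∈ center P ∧ (x = a ^ i * w ∨ x = b * a ^ i * w) := by
      intro x
      obtain ⟨i, hi | hi⟩ := hgen x
      · exact ⟨i, (a ^ i)⁻¹ * x, hker (by
          rw [MonoidHom.mem_ker, map_mul, map_inv, map_zpow, hi, inv_mul_cancel]),
          Or.inl (mul_inv_cancel_left _ _).symm⟩
      · exact ⟨i, (b * a ^ i)⁻¹ * x, hker (by
          rw [MonoidHom.mem_ker, map_mul, map_inv, map_mul, map_zpow, hi, inv_mul_cancel]),
          Or.inr (mul_inv_cancel_left _ _).symm⟩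
    obtain ⟨i, w, hwz, rfl | rfl⟩ := split u <;> obtain ⟨j, w', hwz', rfl | rfl⟩ := split v <;>
      rw [comm_center_mul hwz hwz']
    · rw [haa]; exact one_mem _
    · rw [hab]; exact inv_mem (zpow_mem (mem_zpowers c) i)
    · rw [← commutatorElement_inv, hab, inv_inv]; exact zpow_mem (mem_zpowers c) j
    · exact hbb i j
  obtain ⟨j, rfl⟩ := hsub hzc
  simp only at hzk ⊢
  rw [hcc]
  have hA2 : f a ^ (2 * j) = 1 := by
    rw [hcc, map_commutatorElement, map_zpow, commutatorElement_def, ← conj_zpow, hba, inv_zpow,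
      ← _root_.mul_inv_rev, inv_eq_one, ← zpow_add, ← two_mul] at hzk
    exact hzk
  have hcomm : ∀ x : P, Commute (f y) (f x) := fun x =>
    ((show Commute x y from mem_center_iff.1 hy x).symm.map f)
  by_cases hA : f a ^ j = 1
  · rw [commutatorElement_eq_one_iff_commute]
    exact mem_center_iff.1 (hker (by rwa [MonoidHom.mem_ker, map_zpow])) b
  obtain ⟨i, hi | hi⟩ := hgen y
  · -- `y` is the involution
    have hi2 : f a ^ (2 * i) = 1 := by
      have h := (hcomm b).symm.eq
      rw [hi] at h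
      have h' : (f a)⁻¹ ^ i = f a ^ i := by
        rw [← hba, conj_zpow, h, mul_inv_cancel_right]
      rw [inv_zpow, inv_eq_iff_mul_eq_one, ← zpow_add, ← two_mul] at h'
      exact h'
    have hij : f a ^ i = f a ^ j := by
      have hi1 : f a ^ i ≠ 1 := hi ▸ hy1
      have d2 := orderOf_dvd_iff_zpow_eq_one.2 hA2
      have d3 := orderOf_dvd_iff_zpow_eq_one.2 hi2
      have d4 : ¬ (orderOf (f a) : ℤ) ∣ i := fun h => hi1 (orderOf_dvd_iff_zpow_eq_one.1 h)
      have d5 : ¬ (orderOf (f a) : ℤ) ∣ j := fun h => hA (orderOf_dvd_iff_zpow_eq_one.1 h)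
      rw [zpow_eq_zpow_iff_modEq, Int.modEq_iff_dvd]
      generalize (orderOf (f a) : ℤ) = o at d2 d3 d4 d5 ⊢
      obtain ⟨s, hs⟩ := d3
      obtain ⟨t, ht⟩ := d2
      have hs' : s % 2 = 1 := by
        by_contra hne
        obtain ⟨s', rfl⟩ : 2 ∣ s := by omega
        exact d4 ⟨s', by linarith⟩
      have ht' : t % 2 = 1 := by
        by_contra hne
        obtain ⟨t', rfl⟩ : 2 ∣ t := by omega
        exact d5 ⟨t', by linarith⟩
      obtain ⟨u, hu⟩ : 2 ∣ t - s := by omega
      exact ⟨u, by have := congrArg (o * ·) hu; linarith⟩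
    have hk : (a ^ j)⁻¹ * y ∈ center P := hker (by
      rw [MonoidHom.mem_ker, map_mul, map_inv, map_zpow, hi, ← hij, inv_mul_cancel])
    rw [commutatorElement_eq_one_iff_commute]
    have haj : a ^ j ∈ center P := by
      rw [show a ^ j = y * ((a ^ j)⁻¹ * y)⁻¹ by group]
      exact mul_mem hy (inv_mem hk)
    exact mem_center_iff.1 haj b
  · -- a four group
    have hba' : Commute b a := by
      have hk : (b * a ^ i)⁻¹ * y ∈ center P := hker (by
        rw [MonoidHom.mem_ker, map_mul, map_inv, map_mul, map_zpow, hi, inv_mul_cancel])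
      have hbi : b * a ^ i ∈ center P := by
        rw [show b * a ^ i = y * ((b * a ^ i)⁻¹ * y)⁻¹ by group]
        exact mul_mem hy (inv_mem hk)
      have h := (show Commute a (b * a ^ i) from mem_center_iff.1 hbi a).symm
      have h2 := h.mul_left ((Commute.refl a).zpow_left (-i))
      rwa [mul_assoc, ← zpow_add, add_neg_cancel, zpow_zero, mul_one] at h2
    exact commutatorElement_eq_one_iff_commute.2 (hba'.zpow_right j)

variable {G : Type*} [Group G] [Finite G] {p f d : ℕ} {F : Type*} [Field F] [Fintype F]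

/-- A non-central `2`-element in the centre of some Sylow `2`-subgroup. -/
theorem exists_central_two (hF : Odd (Fintype.card F)) (e : G ⧸ center G ≃* PSL(2, F)) {x : G}
    (hxZ : x ∉ center G) (hx : ¬ 2 ∣ idx x) :
    ∃ (S : Sylow 2 G) (y : G), y ∈ (S : Subgroup G) ∧ (S : Subgroup G) ≤ centralizer ({y} : Set G) ∧
      y ∉ center G := by
  obtain ⟨a, b, ha, hb, hab⟩ := exists_parts Nat.prime_two x
  have hia : ¬ 2 ∣ idx (x ^ a) := fun h => hx (h.trans (idx_dvd_of_le (cent_le_pow x a)))
  by_cases haZ : x ^ a ∈ center G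
  · exfalso
    have hbZ : x ^ b ∉ center G := fun hbZ => hxZ (hab ▸ mul_mem haZ hbZ)
    have hib : ¬ 2 ∣ idx (x ^ b) := fun h => hx (h.trans (idx_dvd_of_le (cent_le_pow x b)))
    obtain ⟨R⟩ : Nonempty (Sylow 2 (centralizer ({x ^ b} : Set G))) := inferInstance
    let S : Sylow 2 G := (R.isPGroup'.map (centralizer ({x ^ b} : Set G)).subtype).toSylow (by
      rw [index_map_subtype]
      exact Nat.prime_two.not_dvd_mul R.not_dvd_index hib)
    let g : G →* PSL(2, F) := e.toMonoidHom.comp (QuotientGroup.mk' (center G))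
    have hg : Function.Surjective g := e.surjective.comp (QuotientGroup.mk'_surjective _)
    have h1 := eq_one_of_centralizes hF (S.mapSurjective hg) (hb.map g) (by
      intro y hy
      rw [Sylow.coe_mapSurjective] at hy
      obtain ⟨s, hs, rfl⟩ := hy
      exact (show Commute (x ^ b) s from (mem_cent.1 (map_subtype_le _ hs)).symm).map g)
    exact hbZ ((QuotientGroup.eq_one_iff _).1 (e.injective (h1.trans (map_one e).symm)))
  · obtain ⟨S, h1, h2⟩ := exists_sylow_le_cent ha hia
    exact ⟨S, x ^ a, h1, h2, haZ⟩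

/-- The group is the product of the derived subgroup, `PSL(2, q)`, and the centre. -/
theorem Core.split (h : Core G (Fintype.card F) p f d) :
    (commutator G ⊓ center G = ⊥) ∧ (commutator G ⊔ center G = ⊤) ∧
      Nonempty (commutator G ≃* PSL(2, F)) ∧ Nonempty (G ⧸ center G ≃* PSL(2, F)) := by
  classical
  obtain ⟨e⟩ := h.pData.nonempty_equiv (F := F)
  haveI := Fact.mk h.prime
  haveI : CharP F p := by
    obtain ⟨c, hc⟩ := CharP.exists F
    obtain ⟨n, hcp, hn⟩ := FiniteField.card F c
    have : p = c := ((Nat.prime_dvd_prime_iff_eq h.prime hcp).1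
      (h.prime.dvd_of_dvd_pow (hn ▸ h.p_dvd)))
    exact this ▸ hc
  let g : G →* PSL(2, F) := e.toMonoidHom.comp (QuotientGroup.mk' (center G))
  have hg : Function.Surjective g := e.surjective.comp (QuotientGroup.mk'_surjective _)
  have hgk : ∀ x : G, g x = 1 ↔ x ∈ center G := fun x =>
    (map_eq_one_iff e e.injective).trans (QuotientGroup.eq_one_iff x)
  set N := commutator G with hN
  -- the derived subgroup covers the quotient
  have htop : N ⊔ center G = ⊤ := by
    have h1 : N.map g = ⊤ := by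
      rw [hN, _root_.commutator_def, map_commutator, map_top_of_surjective g hg, ← _root_.commutator_def]
      haveI : Group.IsPerfect (Matrix.SpecialLinearGroup (Fin 2) F) :=
        ⟨CfsgLib.WordLaws.commutator_SL2 h.four_le⟩
      exact (Group.IsPerfect.instQuotientSubgroup
        (H := Subgroup.center (Matrix.SpecialLinearGroup (Fin 2) F))).commutator_eq_top
    refine eq_top_iff.2 fun x _ => ?_
    obtain ⟨n, hn, hnx⟩ := h1 ▸ mem_top (g x)
    rw [show x = n * (n⁻¹ * x) by group]
    refine mul_mem_sup hn ((hgk _).1 ?_)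
    rw [map_mul, map_inv, hnx, inv_mul_cancel]
  have hperf : commutator N = ⊤ := by
    refine map_injective N.subtype_injective ?_
    rw [_root_.commutator_def, map_commutator, ← MonoidHom.range_eq_map, range_subtype]
    refine le_antisymm (commutator_le_left N N |>.trans le_rfl) ?_
    conv_lhs => rw [hN, _root_.commutator_def]
    rw [commutator_le]
    intro u _ v _
    obtain ⟨n, hn, z, hz, rfl⟩ := mem_sup_of_normal_right.1 (show u ∈ N ⊔ center G by rw [htop]; trivial)
    obtain ⟨m, hm, w, hw, rfl⟩ := mem_sup_of_normal_right.1 (show v ∈ N ⊔ center G by rw [htop]; trivial)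
    rw [comm_center_mul hz hw]
    exact commutator_mem_commutator hn hm
  have hbot : N ⊓ center G = ⊥ := by
    by_contra hne
    obtain ⟨r, hr, hrd⟩ := Nat.exists_prime_and_dvd (fun e' => hne (eq_bot_of_card_eq _ e'))
    haveI := Fact.mk hr
    obtain ⟨⟨z, hzN, hzZ⟩, hzo⟩ := exists_prime_orderOf_dvd_card' r hrd
    replace hzo : orderOf z = r := (Subgroup.orderOf_coe _).trans hzo
    have hz1 : z ≠ 1 := fun e' => hr.ne_one (by rw [← hzo, e', orderOf_one])
    obtain ⟨P⟩ : Nonempty (Sylow r N) := inferInstance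
    obtain ⟨hP, hzc⟩ := mem_commutator_sylow hperf P (z := ⟨z, hzN⟩)
      ⟨1, Subtype.ext (by rw [SubgroupClass.coe_pow, pow_one]; exact hzo ▸ pow_orderOf_eq_one z)⟩
      (mem_center_iff.2 fun m => Subtype.ext (mem_center_iff.1 hzZ m))
    let gP : (P : Subgroup N) →* PSL(2, F) := (g.comp N.subtype).comp (P : Subgroup N).subtype
    have hgN : Function.Surjective (g.comp N.subtype) := by
      intro w
      obtain ⟨x, rfl⟩ := hg w
      obtain ⟨n, hn, c, hc, rfl⟩ := mem_sup_of_normal_right.1 (show x ∈ N ⊔ center G by rw [htop]; trivial)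
      exact ⟨⟨n, hn⟩, by rw [MonoidHom.comp_apply, map_mul, (hgk c).2 hc, mul_one]; rfl⟩
    have hkerP : gP.ker ≤ center (P : Subgroup N) := fun x hx => mem_center_iff.2 fun y =>
      Subtype.ext (Subtype.ext (mem_center_iff.1 ((hgk _).1 hx) ((y : N) : G)))
    refine hz1 ?_
    suffices h1 : (⟨⟨z, hzN⟩, hP⟩ : (P : Subgroup N)) = 1 by
      exact congrArg Subtype.val (congrArg Subtype.val h1)
    have habel : (∀ x y : (P : Subgroup N), x * y = y * x) →
        (⟨⟨z, hzN⟩, hP⟩ : (P : Subgroup N)) = 1 := fun hc => by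
      have : commutator (P : Subgroup N) = ⊥ := by
        rw [_root_.commutator_def, eq_bot_iff, commutator_le]
        exact fun u _ v _ => mem_bot.2 (commutatorElement_eq_one_iff_commute.2 (hc u v))
      exact mem_bot.1 (this ▸ hzc)
    by_cases hrp : r = p
    · subst hrp
      refine habel fun x y => ?_
      by_cases hxZ : ((x : N) : G) ∈ center G
      · exact Subtype.ext (Subtype.ext (mem_center_iff.1 hxZ _).symm)
      have hxr : IsRElem r ((x : N) : G) :=
        (isRElem_of_mem P.isPGroup' x.2).map N.subtype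
      have hx1 : ((x : N) : G ⧸ center G) ≠ 1 := fun e' => hxZ ((QuotientGroup.eq_one_iff _).1 e')
      have hC : (centralizer ({((x : N) : G)} : Set G)).map (QuotientGroup.mk' (center G)) =
          centralizer ({(((x : N) : G) : G ⧸ center G)} : Set _) := by
        refine eq_of_le_of_card_ge ?_ ?_
        · rintro _ ⟨c, hc, rfl⟩
          exact mem_cent.2
            (((show Commute c _ from mem_cent.1 hc).map (QuotientGroup.mk' (center G))).eq)
        · exact (h.pData.cent_card _ (hxr.map (QuotientGroup.mk' (center G))) hx1).le.trans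
            (h.card_map_cent hxr hxZ).ge
      obtain ⟨S, hS⟩ : ∃ S : Sylow r (G ⧸ center G), ∀ w : (P : Subgroup N),
          (((w : N) : G) : G ⧸ center G) ∈ (S : Subgroup (G ⧸ center G)) := by
        obtain ⟨S, hS⟩ := (P.isPGroup'.map
          ((QuotientGroup.mk' (center G)).comp N.subtype)).exists_le_sylow
        exact ⟨S, fun w => hS ⟨w, w.2, rfl⟩⟩
      have hxy : (((y : N) : G) : G ⧸ center G) ∈
          centralizer ({(((x : N) : G) : G ⧸ center G)} : Set _) := by
        rw [h.pData.cent_eq (hS x) hx1]; exact hS y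
      rw [← hC] at hxy
      obtain ⟨c, hc, hcy⟩ := hxy
      have hcy' : c⁻¹ * ((y : N) : G) ∈ center G := QuotientGroup.eq.1 hcy
      refine Subtype.ext (Subtype.ext ?_)
      show ((x : N) : G) * ((y : N) : G) = ((y : N) : G) * ((x : N) : G)
      rw [show ((y : N) : G) = c * (c⁻¹ * ((y : N) : G)) by group]
      exact ((show Commute ((x : N) : G) c from (mem_cent.1 hc).symm).mul_right
        (mem_center_iff.1 hcy' _)).eq
    by_cases hr2 : r = 2
    · subst hr2
      have hd2 : d = 2 := by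
        rcases h.d_eq with ⟨-, e'⟩ | ⟨e', -⟩
        · exact absurd e'.symm hrp
        · exact e'
      have hodd : Odd (Fintype.card F) := by
        rw [h.q_eq]; exact (h.prime.odd_of_ne_two (Ne.symm hrp)).pow
      obtain ⟨x, hxZ, hxi⟩ := h.odd_idx hd2
      obtain ⟨S, y, hyS, hSy, hyZ⟩ := exists_central_two hodd e hxZ hxi
      -- conjugate the Sylow subgroup over the one of `N`
      obtain ⟨S', hS'⟩ := (P.isPGroup'.map N.subtype).exists_le_sylow
      obtain ⟨t, ht⟩ := MulAction.exists_smul_eq G S S'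
      let y' := t * y * t⁻¹
      have hyS' : y' ∈ (S' : Subgroup G) := by
        rw [← ht, Sylow.coe_subgroup_smul, mem_pointwise_smul_iff_inv_smul_mem, MulAut.smul_def,
          ← map_inv MulAut.conj, MulAut.conj_apply]
        simpa [y', mul_assoc] using hyS
      have hyc : ∀ w ∈ (S' : Subgroup G), Commute w y' := by
        intro w hw
        rw [← ht, Sylow.coe_subgroup_smul, mem_pointwise_smul_iff_inv_smul_mem, MulAut.smul_def,
          ← map_inv MulAut.conj, MulAut.conj_apply, inv_inv] at hw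
        calc w * (t * y * t⁻¹) = t * (t⁻¹ * w * t * y) * t⁻¹ := by group
          _ = t * (y * (t⁻¹ * w * t)) * t⁻¹ := by rw [mem_cent.1 (hSy hw)]
          _ = t * y * t⁻¹ * w := by group
      have himg : (S'.mapSurjective hg : Sylow 2 PSL(2, F)) = P.mapSurjective hgN := by
        refine Sylow.ext (eq_of_le_of_card_ge ?_ ?_).symm
        · rw [Sylow.coe_mapSurjective, Sylow.coe_mapSurjective, ← map_map]
          exact map_mono hS'
        · rw [Sylow.card_eq_multiplicity, Sylow.card_eq_multiplicity]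
      obtain ⟨A, B, hA, hB, hAB, hgen⟩ := exists_dihedral_gens hodd (P.mapSurjective hgN)
      rw [Sylow.coe_mapSurjective] at hA hB
      obtain ⟨a, ha, haA⟩ := hA
      obtain ⟨b, hb, hbB⟩ := hB
      have hy' : g y' ∈ ((P.mapSurjective hgN : Sylow 2 PSL(2, F)) : Subgroup PSL(2, F)) := by
        rw [← himg, Sylow.coe_mapSurjective]
        exact mem_map_of_mem _ hyS'
      rw [Sylow.coe_mapSurjective] at hy'
      obtain ⟨w, hw, hwy⟩ := hy'
      refine eq_one_of_dihedral gP hkerP (a := ⟨a, ha⟩) (b := ⟨b, hb⟩) (y := ⟨w, hw⟩) ?_ ?_ ?_ ?_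
        ((hgk z).2 hzZ) hzc
      · show g.comp N.subtype b * g.comp N.subtype a * (g.comp N.subtype b)⁻¹ = _
        rw [haA, hbB, hAB]
        exact congrArg (·⁻¹) haA.symm
      · intro x
        have hx : g.comp N.subtype x ∈
            ((P.mapSurjective hgN : Sylow 2 PSL(2, F)) : Subgroup PSL(2, F)) := by
          rw [Sylow.coe_mapSurjective]; exact mem_map_of_mem _ x.2
        obtain ⟨i, hi⟩ := hgen _ hx
        refine ⟨i, ?_⟩
        rw [← haA, ← hbB] at hi
        exact hi
      · have hk : y'⁻¹ * (w : G) ∈ center G := by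
          rw [← hgk, map_mul, map_inv, ← hwy]
          exact inv_mul_cancel _
        refine mem_center_iff.2 fun v => Subtype.ext (Subtype.ext ?_)
        show ((v : N) : G) * (w : G) = (w : G) * ((v : N) : G)
        rw [show (w : G) = y' * (y'⁻¹ * (w : G)) by group]
        exact ((hyc _ (hS' ⟨v, v.2, rfl⟩)).mul_right (mem_center_iff.1 hk _)).eq
      · intro e'
        refine hyZ ?_
        have h1 : y' ∈ center G := (hgk _).1 (hwy.symm.trans e')
        have h2 := Subgroup.Normal.conj_mem (inferInstance : (center G).Normal) _ h1 t⁻¹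
        simpa [y', mul_assoc] using h2
    · haveI := isCyclic_sylow_PSL (p := p) hr2 hrp (P.mapSurjective hgN)
      let k : (P : Subgroup N) →* ((P.mapSurjective hgN : Sylow r PSL(2, F)) : Subgroup PSL(2, F)) :=
        gP.codRestrict _ fun x => by
          rw [Sylow.coe_mapSurjective]; exact mem_map_of_mem _ x.2
      exact habel fun x y => (k.isMulCommutative_of_isCyclic_of_ker_le_center
        (by rw [show k.ker = gP.ker from MonoidHom.ker_codRestrict _ _ _]; exact hkerP)).is_comm.comm x y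
  refine ⟨hbot, htop, ⟨?_⟩, ⟨e⟩⟩
  refine MulEquiv.ofBijective (g.comp N.subtype) ⟨?_, ?_⟩
  · rw [injective_iff_map_eq_one]
    intro x hx
    have : (x : G) ∈ N ⊓ center G := ⟨x.2, (hgk _).1 hx⟩
    rw [hbot, mem_bot] at this
    exact Subtype.ext this
  · intro w
    obtain ⟨x, rfl⟩ := hg w
    obtain ⟨n, hn, c, hc, rfl⟩ := mem_sup_of_normal_right.1 (show x ∈ N ⊔ center G by rw [htop]; trivial)
    exact ⟨⟨n, hn⟩, by rw [MonoidHom.comp_apply, map_mul, (hgk c).2 hc, mul_one]; rfl⟩

end CfsgLib.ClassSizePSLTwo
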